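import Cfsg.Agent.MQ.S.M35.Loc
import Cfsg.Agent.MK.S4.ZM_m3
import Cfsg.Agent.MQ.S.B.Tri
import Cfsg.Agent.MQ.S.Pc2
import Cfsg.Agent.SporRec.SuzCl.TData
import Cfsg.Agent.SuzThree.Basic
import Cfsg.Agent.TAB.Use.Defs_m3
import Cfsg.Agent.Lib.FinFast
import Cfsg.Agent.FastGrp
import Cfsg.Agent.Prune
set_option linter.all false
prune_inst 0x7f00000000000000000000000000000000000000000000000000000000000000000000000000000000000000000000000000000000000000000000000000000000000000000000000000000000000000003fffffffffffffffffffffffffffbeffbdfbfeffff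
open scoped Cfsg.Agent.FastGrp

-- part: MO/S/SuzL/Glob
section
/-!
# MO, the Suzuki group : the global side and the centralisers (helper58)

* `k0_3`, `k0_5`, `f0_3`, `f0_5` : the numbers of characters;
* `out`, `cen_p`, `not_39` : the outer automorphism, the centralisers of the Sylow subgroups.
-/

set_option autoImplicit false
set_option maxRecDepth 100000

namespace Cfsg.Agent.MO.S.SuzL

open Cfsg Subgroup Cfsg.Agent.MO.T Cfsg.Agent.TAB Cfsg.Agent.TAB.Use Cfsg.Agent.Characters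
open Cfsg.Spor (Suz)
open Cfsg.Agent.KFacts.SuzRho (rho)
open Cfsg.Agent.SporadicRecognition.SuzOrder (el finiteSuz card_Suz)
open Cfsg.Agent.H714.S8.SuzFam (fam SZ fam_lt)

theorem out (γ : MulAut Suz) : ∃ s, γ = MulAut.conj s ∨ γ = MulAut.conj s * rho :=
  MK.T.out_cases S2074.result (fun ⟨k, hk⟩ => H997.OutSuz.rho_outer k hk.symm) γ

theorem out2 : Out2 Suz := ⟨rho, out⟩

theorem k0_3 : k0 3 Suz = 18 := by
  rw [k0_of_degList TAB.Suz.deg]
  decide

theorem k0_5 : k0 5 Suz = 16 := by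
  rw [k0_of_degList TAB.Suz.deg]
  decide

theorem f0_rho (p : ℕ) : f0 p rho = (List.range 43).countP fun j =>
    (Sm2.mkRows Sz.rowA Sz.rowB).d j % p != 0 && decide (j < 31) := by
  have := finiteSuz
  obtain ⟨χ, hE, hR⟩ := Sz.tab
  have hn : (Sm2.mkRows Sz.rowA Sz.rowB).n = 43 := by decide +kernel
  have hr : ∀ k < 43, k % 2 = 0 → 31 ≤ k → k ∉ MK.S4.SuzRow.reps := by decide
  rw [f0_enum hE (q := fun j => decide (j < 31)) fun j hj _ => ?_, hn]
  obtain ⟨r, hm, h⟩ := MK.S4.SuzRow.pairs j (hn ▸ hj)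
  rw [decide_eq_true_eq]
  refine ⟨fun hf => by_contra fun h31 => ?_, fun h31 x => ?_⟩
  · rw [if_neg h31] at h
    have hc : ∀ a b, Sz.td.ty a = Sz.td.ty b → χ j a = χ j b := fun a b e => by
      obtain ⟨σ, rfl, -⟩ := Sz.hom a b e
      obtain ⟨s, rfl | rfl⟩ := out σ
      · exact (Core.isIrr_isClassFunction (hE.irr j hj) _ _).symm
      · exact ((Core.isIrr_isClassFunction (hE.irr j hj) _ _).trans (hf a)).symm
    obtain ⟨k, hk, ⟨h1, h2, h3⟩ | ⟨-, h2⟩⟩ := h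
    · refine MK.S4.not_const hE hR MK.S4.SuzRow.reps_ok (hn ▸ hk) (hr k hk h2 h3) fun a b e => ?_
      have h4 := Sz.pair_sum hR hm (Or.inl h1) a
      rw [e, ← Sz.pair_sum hR hm (Or.inl h1) b, hc a b e] at h4
      exact add_left_cancel h4
    · exact MK.S4.not_const hE hR MK.S4.SuzRow.reps_ok hj (hr j (hn ▸ hj) h2 (not_lt.1 h31)) hc
  · rw [if_pos h31] at h
    rw [hR.row hm h, hR.row hm h, Sz.td_ty, Sz.td_ty, H714.S8.SuzFam.fam_aut]

theorem f0_3 : f0 3 rho = 12 := (f0_rho 3).trans (by decide +kernel)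

theorem f0_5 : f0 5 rho = 16 := (f0_rho 5).trans (by decide +kernel)

/-- the order of an element whose centraliser has an order divisible by `n` -/
theorem ord_of_dvd {n : ℕ} {g : Suz} (h : n ∣ Nat.card (centralizer ({g} : Set Suz))) :
    ∃ i < 37, n * SZ.getD i 0 ∣ 2 * 448345497600 ∧ orderOf g = Sz.dat.ord (Sz.sw i) := by
  refine ⟨_, fam_lt g, (Nat.mul_dvd_mul_right h _).trans ?_, Sz.fam_ord g⟩
  rcases TID.Suz.cent_mul g with h | h <;> rw [h]
  exact Dvd.intro_left _ rfl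

theorem cen_p {p n : ℕ} {Q : Subgroup Suz} (hQ : Nat.card Q = n)
    (h : ∀ i < 37, n * SZ.getD i 0 ∣ 2 * 448345497600 → Sz.dat.ord (Sz.sw i) ∣ p) :
    IsPGroup p (centralizer (Q : Set Suz)) := fun g => by
  have := finiteSuz
  obtain ⟨i, h1, h2, h3⟩ := ord_of_dvd (n := n) (g := g) (hQ ▸ card_dvd_of_le fun x hx =>
    mem_centralizer_singleton_iff.2 (mem_centralizer_iff.1 g.2 x hx))
  exact ⟨1, Subtype.ext (by rw [pow_one, coe_pow, coe_one, ← orderOf_dvd_iff_pow_eq_one, h3]; exact h i h1 h2)⟩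

theorem cen_3 {Q : Subgroup Suz} (hQ : Nat.card Q = 3 ^ 7) : IsPGroup 3 (centralizer (Q : Set Suz)) :=
  cen_p hQ (by decide +kernel)

theorem cen_5 {Q : Subgroup Suz} (hQ : Nat.card Q = 5 ^ 2) : IsPGroup 5 (centralizer (Q : Set Suz)) :=
  cen_p hQ (by decide +kernel)

/-- an element of order 13 does not centralise an element of order 3 -/
theorem not_39 {g : Suz} (hg : orderOf g = 13) : ¬ 3 ∣ Nat.card (centralizer ({g} : Set Suz)) := fun h => by
  obtain ⟨i, h1, h2, h3⟩ := ord_of_dvd h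
  exact (by decide +kernel : ∀ i < 37, 3 * SZ.getD i 0 ∣ 2 * 448345497600 → 13 ≠ Sz.dat.ord (Sz.sw i)) i h1 h2
    (hg.symm.trans h3)

end Cfsg.Agent.MO.S.SuzL
end

-- part: MO/S/SuzL/Cov
section
/-!
# MO, the Suzuki group : the covers (helper58)

* `Mod m φ` : lifts of the words in a cover `m.Suz`, with a test of relations and the lift of the outer automorphism;
* `exists_mod`, `noOut_3`, `noOut_6`, `outC`.
-/

set_option autoImplicit false
set_option maxRecDepth 100000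

namespace Cfsg.Agent.MO.S.SuzL

open Cfsg Subgroup Cfsg.Agent.MO.T
open Cfsg.Spor (Suz)
open Cfsg.Agent.KFacts.SuzRho (rho rhoHom rhoHom_of)
open Cfsg.Agent.SporadicRecognition.SuzOrder (el finiteSuz card_Suz)
open Cfsg.Agent.MK.S4.Z (Rp rp ms sc fs ix tau_chk)
open Cfsg.Agent.TAB.F22 (relB)
open Cfsg.Agent.H123.Cls.SuzDat (gn)
open scoped commutatorElement

/-- the exchange of the letters -/
def sw (x : ℕ) : ℕ := if x = 5 then 6 else if x = 6 then 5 else x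

/-- the test of `v = j ^ k * w` in the sixfold cover, with a word `r` for the inverse of `v` -/
noncomputable def eqY (v : List ℕ) (k : ℕ) (w r : List ℕ) : Bool :=
  (v.all (Nat.blt · 7) && w.all (Nat.blt · 7)) &&
    (relB 24 ms sc fs 8 (v ++ r) && relB 24 ms sc fs 8 (List.replicate k 7 ++ (w ++ r)))

/-- the lifts of the words -/
structure Mod (m : ℕ) {X : Type} [Group X] (φ : X →* Suz) where
  y : ℕ → X
  j : X
  φy : ∀ x, φ (y x) = el [gn x]
  ord : orderOf j = m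
  cen : center X = zpowers j
  rel : ∀ v k w r, eqY v k w r = true → el (v.map gn) = el (w.map gn) → (v.map y).prod = j ^ k * (w.map y).prod
  aut : ∀ α : MulAut X, (∀ x, φ (α x) = rho (φ x)) → α j = j⁻¹ ∧ ∀ x < 7, α (y x) = y (sw x)

theorem hom_ext {Y X S : Type} [Group Y] [Group X] [Group S] {φ : X →* S} (hk : φ.ker ≤ center X)
    (hp : _root_.commutator Y = ⊤) {f g : Y →* X} (h : ∀ y, φ (f y) = φ (g y)) (y : Y) : f y = g y := by
  have h1 : ∀ x, f x * (g x)⁻¹ ∈ center X := fun x => hk (by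
    rw [MonoidHom.mem_ker, map_mul, map_inv, h, mul_inv_cancel])
  refine (hp.ge.trans (commutator_le.2 fun a _ b _ => ?_) : ⊤ ≤ f.eqLocus g) (mem_top y)
  change f ⁅a, b⁆ = g ⁅a, b⁆
  have h2 : ∀ u v z : X, z ∈ center X → ⁅z * u, v⁆ = ⁅u, v⁆ := fun u v z hz => by
    rw [commutatorElement_def, commutatorElement_def, mul_inv_rev, ← mem_center_iff.1 hz, mul_assoc u z,
      ← mem_center_iff.1 hz, mul_assoc, mul_assoc, mul_assoc, ← mul_assoc z, ← mem_center_iff.1 hz]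
    group
  rw [map_commutatorElement, map_commutatorElement, ← inv_mul_cancel_right (f a) (g a), h2 _ _ _ (h1 a),
    ← commutatorElement_inv, ← inv_mul_cancel_right (f b) (g b), h2 _ _ _ (h1 b), commutatorElement_inv]

theorem perfect : _root_.commutator Suz = ⊤ :=
  H51.Tools.perfect_of_simple S1694.result.1 (by rw [S1694.result.2]; norm_num)

theorem mod_of {G : Type} [Group G] (P : Rp G) {m : ℕ} {X : Type} [Group X] [Finite X] {φ : X →* Suz} (c : Cv m φ) :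
    Nonempty (Mod m φ) := by
  have := finiteSuz
  let M := P.md
  have h6 : Nat.card M.q.ker = 6 := by rw [M.ker, Nat.card_zpowers, M.ord]
  have : Finite M.q.ker := Nat.finite_of_card_ne_zero (by omega)
  have : Finite P.Y := M.q.finite_iff_finite_ker_range.2 ⟨inferInstance, inferInstance⟩
  obtain ⟨θ, hθ, hq⟩ := H95.StemCover.exists_cover' perfect (A := Multiplicative (ZMod 6))
    S2048.result M.q ⟨M.surj, M.ker ▸ zpowers_le_of_mem (mem_center_iff.2 fun y => (M.cen y).symm),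
      M.ker ▸ zpowers_le_of_mem M.com⟩ (by rw [h6]; simp) c.perf φ c.surj c.ker.le
  have hp : _root_.commutator P.Y = ⊤ := by
    refine eq_top_iff.2 fun y _ => ?_
    obtain ⟨x, hx, e⟩ : M.q y ∈ (_root_.commutator P.Y).map M.q := by
      rw [commutator_def, map_commutator, ← MonoidHom.range_eq_map, MonoidHom.range_eq_top.2 M.surj, ← commutator_def,
        perfect]
      exact mem_top _
    have h1 : x⁻¹ * y ∈ M.q.ker := by rw [MonoidHom.mem_ker, map_mul, map_inv, e, inv_mul_cancel]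
    have h2 := mul_mem hx (zpowers_le_of_mem M.com (M.ker ▸ h1))
    rwa [mul_inv_cancel_left] at h2
  have k1 : center X = zpowers (θ M.j) := by
    refine le_antisymm (fun x hx => ?_) (zpowers_le_of_mem (c.ker.le ((hq _).trans (M.ker.ge (mem_zpowers _)))))
    obtain ⟨y, rfl⟩ := hθ x
    obtain ⟨n, rfl⟩ := M.ker.le ((hq y).symm.trans (c.ker.ge hx))
    exact ⟨n, (map_zpow θ _ n).symm⟩
  have k2 : ∀ w : List ℕ, (w.map fun x => θ (P.lw [x])).prod = θ (P.lw w) := fun w => by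
    rw [Rp.lw, map_list_prod, List.map_map]
    exact congrArg List.prod (List.map_congr_left fun x _ => congrArg θ (mul_one _))
  have k3 : ∀ w : List ℕ, w.all (Nat.blt · 7) = true → ∀ x ∈ w, x < 7 := fun w h x hx =>
    Nat.blt_eq.mp (List.all_eq_true.1 h x hx)
  refine ⟨⟨fun x => θ (P.lw [x]), θ M.j, fun x => (hq _).trans (M.q_lw [x]), ?_, k1, fun v k w r h e => ?_,
    fun α h => ?_⟩⟩
  · rw [← c.card, k1, Nat.card_zpowers]
  · simp only [eqY, Bool.and_eq_true] at h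
    rw [k2, k2, ← map_pow, ← map_mul]
    refine congrArg θ (P.ext ?_ ?_)
    · have h1 : P.ev (v ++ r) = 1 := P.rel _ h.2.1
      have h2 : P.ev (List.replicate k 7 ++ (w ++ r)) = 1 := P.rel _ h.2.2
      rw [P.ev_append] at h1
      rw [P.ev_append, P.ev_append, ← mul_assoc, ← h1, mul_left_inj] at h2
      rw [map_mul, P.π_lw (k3 v h.1.1), P.π_lw (k3 w h.1.2), ← h2]
      exact congrArg (· * _) (P.π_j k).symm
    · rw [map_mul, P.q_lw, P.q_lw, e, map_pow, show P.q M.j = 1 from rfl, one_pow, one_mul]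
  · have h1 : ∀ y, α (θ y) = θ (M.δ y) := hom_ext c.ker.le hp (f := α.toMonoidHom.comp θ) (g := θ.comp M.δ) fun y => by
      change φ (α (θ y)) = φ (θ (M.δ y))
      rw [h, hq, hq, M.qδ]
    refine ⟨by rw [h1, M.δj, map_inv], fun x hx => (h1 _).trans (congrArg θ (P.ext ?_ ?_))⟩
    · have h2 : ∀ x < 7, sw x < 7 ∧ ix (gn x) = x ∧ ix (KFacts.SuzRho.sw (gn x)) = sw x := by decide
      have h3 := P.eq_of (tau_chk (gn x))
      rw [(h2 x hx).2.1, (h2 x hx).2.2, P.ev2, P.ev2, ← mul_inv_eq_iff_eq_mul] at h3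
      change P.u 9 * P.π (P.lw [x]) * (P.u 9)⁻¹ = _
      rw [P.π_lw (List.forall_mem_singleton.2 hx), P.π_lw (List.forall_mem_singleton.2 (h2 x hx).1)]
      simpa only [Rp.ev, List.map_cons, List.map_nil, List.prod_cons, List.prod_nil, mul_one] using h3
    · have h2 : ∀ x < 7, gn (sw x) = KFacts.SuzRho.sw (gn x) := by decide
      refine (M.qδ _).trans ?_
      change rho (P.q _) = _
      rw [P.q_lw, P.q_lw, KFacts.SuzRho.rho_el, List.map_singleton, List.map_singleton, List.map_singleton, h2 x hx]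

theorem exists_mod {m : ℕ} {X : Type} [Group X] [Finite X] {φ : X →* Suz} (c : Cv m φ) : Nonempty (Mod m φ) :=
  mod_of rp c

theorem noOut {m : ℕ} (hm : ¬ m ∣ 2) : NoOut m Suz := by
  intro X _ _ φ c
  obtain ⟨M⟩ := exists_mod c
  refine MK.T.inn_of_no φ c.surj c.ker c.perf out fun α h h1 => hm ?_
  rw [← M.ord, orderOf_dvd_iff_pow_eq_one, pow_two, ← eq_inv_iff_mul_eq_one, ← (M.aut α h).1,
    h1 _ (M.cen ▸ mem_zpowers _)]

theorem noOut_3 : NoOut 3 Suz := noOut (by decide)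

theorem noOut_6 : NoOut 6 Suz := noOut (by decide)

theorem outC (m : ℕ) : OutC m Suz := out2.outC m

end Cfsg.Agent.MO.S.SuzL
end

-- part: MO/S/SuzL/Loc
section
/-!
# MO, the normaliser of a Sylow subgroup in a cover (helper58)

* `Dat p e Q a b u` : `N(Q) = Q ⟨a, b, u⟩` with `b a = a ^ (e + 1) b`, `b ^ 2 = 1`;
* `Dat.cen_comm` : the centre of a cover meets `N(P)'` trivially; `Dat.kk_eq`;
* `Dat.fB_fix`, `fB_sign` : the characters of a double cover which are fixed by an automorphism;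
* `card_le_of_mod`, `not_dvd_rel` : bounds for `|N(Q) : Q|`.
-/

set_option autoImplicit false

namespace Cfsg.Agent.MO.S.SuzL

open Cfsg Subgroup Cfsg.Agent.MO.T Cfsg.Agent.MO.S.Up Cfsg.Agent.ODD.Red Cfsg.Agent.Characters.Core
open Cfsg.Agent.MK (Ov)
open Cfsg.Agent.MK.T (res stab_of_le stab_norm)
open scoped commutatorElement

variable {p : ℕ} {X S : Type} [Group X] [Group S]

theorem comm_le_of {N W : Subgroup X} {s : Set X}
    (gen : ∀ H : Subgroup X, W ≤ H → center X ≤ H → (∀ a ∈ s, a ∈ H) → N ≤ H) (hW : W ≤ N) (hZ : center X ≤ N)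
    (hs : ∀ a ∈ s, a ∈ N) (hn : ∀ a ∈ s, a ∈ normalizer (W : Set X)) (hc : ∀ a ∈ s, ∀ b ∈ s, ⁅a, b⁆ ∈ W) :
    ⁅N, N⁆ ≤ W := by
  have h1 : ∀ x ∈ N, ∀ w ∈ W, x * w * x⁻¹ ∈ W := fun x hx w =>
    (mem_normalizer_iff.1 (gen _ le_normalizer (center_le_normalizer _) hn hx) w).1
  have key : ∀ a ∈ N, (∀ b ∈ s, ⁅b, a⁆ ∈ W) → ∀ x ∈ N, ⁅x, a⁆ ∈ W := fun a ha h x hx =>
    (gen { carrier := {x | x ∈ N ∧ ⁅x, a⁆ ∈ W}
           one_mem' := ⟨one_mem _, by rw [commutatorElement_one_left]; exact one_mem _⟩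
           mul_mem' := fun {u v} hu hv => ⟨mul_mem hu.1 hv.1, by
            rw [show ⁅u * v, a⁆ = u * ⁅v, a⁆ * u⁻¹ * ⁅u, a⁆ by simp only [commutatorElement_def]; group]
            exact mul_mem (h1 u hu.1 _ hv.2) hu.2⟩
           inv_mem' := fun {u} hu => ⟨inv_mem hu.1, by
            rw [show ⁅u⁻¹, a⁆ = u⁻¹ * ⁅u, a⁆⁻¹ * u⁻¹⁻¹ by simp only [commutatorElement_def]; group]
            exact h1 _ (inv_mem hu.1) _ (inv_mem hu.2)⟩ }
      (fun w hw => ⟨hW hw, by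
        rw [show ⁅w, a⁆ = w * (a * w⁻¹ * a⁻¹) by simp only [commutatorElement_def]; group]
        exact mul_mem hw (h1 a ha _ (inv_mem hw))⟩)
      (fun z hz => ⟨hZ hz, by
        rw [commutatorElement_eq_one_iff_mul_comm.2 (mem_center_iff.1 hz a).symm]
        exact one_mem _⟩) (fun b hb => ⟨hs b hb, h b hb⟩) hx).2
  refine commutator_le.2 fun x hx y hy => key y hy (fun b hb => ?_) x hx
  rw [← commutatorElement_inv]
  exact inv_mem (key b (hs b hb) (fun c h => hc c h b hb) y hy)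

theorem pow_card_mem {K : Subgroup X} {x : X} (hx : x ∈ K) : x ^ Nat.card K = 1 :=
  congrArg Subtype.val (pow_card_eq_one' (x := (⟨x, hx⟩ : K)))

theorem one_of_cop [hp : Fact p.Prime] {P : Subgroup X} (h : IsPGroup p P) {x : X} (hx : x ∈ P) {n : ℕ} (hn : ¬ p ∣ n)
    (h1 : x ^ n = 1) : x = 1 := by
  obtain ⟨k, hk⟩ := h ⟨x, hx⟩
  exact orderOf_eq_one_iff.1 (Nat.eq_one_of_dvd_coprimes (((Nat.Prime.coprime_iff_not_dvd hp.out).2 hn).pow_left k)
    (orderOf_dvd_of_pow_eq_one (congrArg Subtype.val hk)) (orderOf_dvd_of_pow_eq_one h1))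

/-- twisting by an invariant linear character -/
theorem fB_twist (K : Subgroup X) (μ : K →* ℂˣ) {l : X → ℂ} (h : ∀ z : K, (z : X) ∈ center X → l z = μ z) {α : MulAut X}
    (hα : ∀ y y' : K, (y' : X) = α y → μ y' = μ y) : fB p K l α = fB p K (fun _ => 1) α :=
  Nat.card_congr
    { toFun := fun ψ => ⟨fun x => (μ⁻¹ x : ℂ) * ψ.1 x, pi_lin_mul _ ψ.2.1, fun z hz => by
        beta_reduce
        rw [ψ.2.2.1 z hz, h z hz]
        simp, fun y y' e => by
          beta_reduce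
          rw [ψ.2.2.2 y y' e, MonoidHom.inv_apply, MonoidHom.inv_apply, hα y y' e]⟩
      invFun := fun ψ => ⟨fun x => (μ x : ℂ) * ψ.1 x, pi_lin_mul _ ψ.2.1, fun z hz => by
        beta_reduce
        rw [ψ.2.2.1 z hz, h z hz]
        simp, fun y y' e => by
          beta_reduce
          rw [ψ.2.2.2 y y' e, hα y y' e]⟩
      left_inv := fun ψ => Subtype.ext (funext fun x => by simp)
      right_inv := fun ψ => Subtype.ext (funext fun x => by simp) }

theorem exists_mu [Finite X] {K : Subgroup X} (hK : center X ≤ K) (h : ∀ z ∈ center X, z ∈ ⁅K, K⁆ → z = 1) {l : X → ℂ}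
    (hl : Fl X l) : ∃ μ : K →* ℂˣ, ∀ z : K, (z : X) ∈ center X → l z = μ z := by
  obtain ⟨c, -, hc⟩ := hl
  obtain ⟨μ, hμ⟩ := MK.T.exists_ext ((center X).subgroupOf K) (c.comp (subgroupOfEquivOfLe hK).toMonoidHom) fun z hz => by
    have h2 := mem_map_of_mem K.subtype hz
    rw [_root_.commutator_def, map_commutator, ← MonoidHom.range_eq_map, range_subtype] at h2
    rw [show z = 1 from Subtype.ext (Subtype.ext (h _ z.2 h2)), map_one]
  exact ⟨μ, fun z hz => (hc ⟨z, hz⟩).trans (congrArg Units.val (hμ ⟨z, hz⟩).symm)⟩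

/-- **an automorphism of a double cover which acts trivially modulo the centre** -/
theorem fB_sign [Finite X] [Fact p.Prime] (hp : p ≠ 2) (h2 : Nat.card (center X) = 2) {N : Subgroup X} (hN : center X ≤ N)
    {α : MulAut X} (hZ : ∀ z ∈ center X, α z = z) (hα : ∀ y ∈ N, α y * y⁻¹ ∈ center X) {u : X} (hu : u ∈ N) (hn : α u ≠ u)
    {l : X → ℂ} (hl : Fl X l) : 2 * kk p (N ⊓ α.toMonoidHom.eqLocus (MonoidHom.id X) : Subgroup X) (center X) l =
      kk p N (center X) l + 3 * fB p N l α := by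
  obtain ⟨μ, h3, h4⟩ := hl
  have h5 : ∀ z : center X, z * z = 1 := fun z => by rw [← pow_two, ← h2, pow_card_eq_one']
  have h6 : ∀ y, α y ≠ y → ∀ h, (⟨α y * y⁻¹, h⟩ : center X) ≠ 1 := fun y h _ e =>
    h (mul_inv_eq_one.1 (congrArg Subtype.val e))
  rw [kk_sign (K := N ⊓ α.toMonoidHom.eqLocus (MonoidHom.id X)) hp inf_le_left (relIndex_eq_two_iff_exists_notMem_and.2 ⟨u, hu, fun h => hn h.2, fun b hb => ?_⟩)
    (fun z hz u _ => mem_center_iff.1 hz u) fun z hz => ⟨hN hz, hZ z hz⟩]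
  · congr 2
    refine card_iff fun χ hχ => and_congr_right fun ho => ?_
    have h7 : ∀ y y' : N, (y' : X) = α y → α y ≠ y → χ y' = -χ y := fun y y' e h => by
      obtain ⟨c, hc, -⟩ := exists_central hχ.1 (z := ⟨_, hN (hα y y.2)⟩)
        (mem_center_iff.2 fun g => Subtype.ext (mem_center_iff.1 (hα y y.2) g))
      have h8 := (hc 1).symm.trans ((congrArg χ (mul_one _)).trans (ho _ (hα y y.2)))
      have h9 : (μ ⟨_, hα y y.2⟩ : ℂ) = -1 := (mul_self_eq_one_iff.1 (by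
        rw [← Units.val_mul, ← map_mul, h5, map_one, Units.val_one])).resolve_left fun e =>
          h6 y h _ ((injective_iff_map_eq_one μ).1 h3 _ (Units.ext e))
      rw [show y' = ⟨_, hN (hα y y.2)⟩ * y from Subtype.ext (e.trans (inv_mul_cancel_right _ _).symm), hc,
        mul_right_cancel₀ (isIrr_apply_one_ne_zero hχ.1) h8, h4 ⟨_, hα y y.2⟩, h9, neg_one_mul]
    refine ⟨fun h y y' e => ?_, fun h y hy => ?_⟩
    · by_cases h8 : α y = y
      · rw [show y' = y from Subtype.ext (e.trans h8)]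
      · rw [h7 y y' e h8, h y fun h9 => h8 h9.2, neg_zero]
    · have h8 : α y ∈ N := by simpa using mul_mem (hN (hα y y.2)) y.2
      have h9 := (h y ⟨_, h8⟩ rfl).symm.trans (h7 y ⟨_, h8⟩ rfl fun e => hy ⟨y.2, e⟩)
      linear_combination h9 / 2
  · refine or_iff_not_imp_right.2 fun h => ⟨mul_mem hb hu, ?_⟩
    obtain ⟨j, -, hj⟩ := (Nat.card_eq_two_iff' (1 : center X)).1 h2
    have h7 : α b * b⁻¹ = α u * u⁻¹ := congrArg Subtype.val
      ((hj _ (h6 b (fun e => h ⟨hb, e⟩) (hα b hb))).trans (hj _ (h6 u hn (hα u hu))).symm)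
    have h8 : α u * u⁻¹ * (α u * u⁻¹) = 1 := congrArg Subtype.val (h5 ⟨_, hα u hu⟩)
    change α (b * u) = b * u
    rw [map_mul, ← inv_mul_cancel_right (α b) b, h7, ← mem_center_iff.1 (hα u hu), mul_assoc,
      ← inv_mul_cancel_right (α u) u, ← mul_assoc (_ * _), inv_mul_cancel_right, h8, one_mul]

/-- `N(Q) = Q ⟨a, b, u⟩` -/
structure Dat (p e : ℕ) (Q : Subgroup S) (a b u : S) : Prop where
  ma : a ∈ normalizer (Q : Set S)
  mb : b ∈ normalizer (Q : Set S)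
  mu : u ∈ normalizer (Q : Set S)
  gen : ∀ H : Subgroup S, Q ≤ H → a ∈ H → b ∈ H → u ∈ H → normalizer (Q : Set S) ≤ H
  rel : b * a = a ^ (e + 1) * b
  sq : b * b = 1
  ord : orderOf (a ^ e) = e + 2
  cop : ¬ p ∣ e + 2

section cov

variable [Finite X] [Fact p.Prime] {m e : ℕ} {φ : X →* S} (v : Cv m φ) (P : Sylow p X)
include v

theorem mem_norm {x : X} : x ∈ normalizer ((P : Subgroup X) : Set X) ↔
    φ x ∈ normalizer (((P : Subgroup X).map φ : Subgroup S) : Set S) := by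
  rw [← map_normalizer φ v.surj, ← mem_comap, comap_map_eq_self (v.ker.le.trans (center_le_normalizer _))]

theorem stab_lift {α : MulAut X} {β : MulAut S} (h : ∀ x, φ (α x) = β (φ x))
    (hβ : ∀ y ∈ (P : Subgroup X).map φ, β y ∈ (P : Subgroup X).map φ) (y : X) :
    α y ∈ (P : Subgroup X) ↔ y ∈ (P : Subgroup X) :=
  stab_of_le (fun x hx => by
    obtain ⟨k, hk⟩ := P.isPGroup' ⟨x, hx⟩
    refine mem_of_pow P ((mem_norm v P).2 (le_normalizer (h x ▸ hβ _ (mem_map_of_mem φ hx)))) (k := k) ?_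
    rw [← map_pow, show x ^ p ^ k = 1 from congrArg Subtype.val hk, map_one]
    exact one_mem _) y

variable {A B U : X} (D : Dat p e ((P : Subgroup X).map φ) (φ A) (φ B) (φ U))
include D

theorem Dat.lift {H : Subgroup X} (h1 : (P : Subgroup X) ≤ H) (h2 : center X ≤ H) (hA : A ∈ H) (hB : B ∈ H) (hU : U ∈ H) :
    normalizer ((P : Subgroup X) : Set X) ≤ H := fun x hx => by
  rw [← comap_map_eq_self (f := φ) (v.ker.le.trans h2)]
  exact D.gen _ (map_mono h1) (mem_map_of_mem φ hA) (mem_map_of_mem φ hB) (mem_map_of_mem φ hU) ((mem_norm v P).1 hx)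

variable (hm : ¬ p ∣ m) (hA : U * A = A * U) (hB : U * B = B * U)
include hm hA hB

/-- **the centre meets the commutator subgroup of the normaliser trivially** -/
theorem Dat.cen_comm : ∀ z ∈ center X,
    z ∈ ⁅normalizer ((P : Subgroup X) : Set X), normalizer ((P : Subgroup X) : Set X)⁆ → z = 1 := by
  intro z hz h
  obtain ⟨c, hc⟩ : ∃ c, c = ⁅B, A⁆ := ⟨_, rfl⟩
  have h0 : φ c = φ A ^ e := by
    rw [hc, map_commutatorElement, commutatorElement_def, D.rel, pow_succ]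
    group
  have h1 : c * (A ^ e)⁻¹ ∈ center X := v.ker.le (by rw [MonoidHom.mem_ker, map_mul, map_inv, map_pow, h0, mul_inv_cancel])
  have h2 : B * B ∈ center X := v.ker.le (by rw [MonoidHom.mem_ker, map_mul, D.sq])
  have h3 : MulAut.conj B A = c * A := by rw [hc, commutatorElement_def, inv_mul_cancel_right, MulAut.conj_apply]
  have h4 : Commute c A := by
    rw [← inv_mul_cancel_right c (A ^ e)]
    exact (show Commute A _ from mem_center_iff.1 h1 A).symm.mul_left (Commute.self_pow A e).symm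
  have h5 : MulAut.conj B c = c ^ (e + 1) := by
    conv_lhs => rw [← inv_mul_cancel_right c (A ^ e), map_mul, map_pow, h3, MulAut.conj_apply, mem_center_iff.1 h1,
      mul_inv_cancel_right, h4.mul_pow, ← mul_assoc, ← mem_center_iff.1 h1, mul_assoc, inv_mul_cancel_right]
    rw [pow_succ]
  have h6 : c ^ (e + 2) = 1 := by
    have h7 := congrArg (MulAut.conj B) h3
    rw [map_mul, h5, ← MulAut.mul_apply, ← map_mul, h3, MulAut.conj_apply, ← mem_center_iff.1 h2, mul_inv_cancel_right,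
      ← mul_assoc, ← pow_succ] at h7
    exact (mul_eq_right.1 h7.symm)
  have h7 : Commute U c := by
    rw [hc, commutatorElement_def]
    exact (((show Commute U B from hB).mul_right hA).mul_right (Commute.inv_right hB)).mul_right (Commute.inv_right hA)
  have mA := (mem_norm v P).2 D.ma
  have mB := (mem_norm v P).2 D.mb
  have h8 : c ∈ normalizer ((P : Subgroup X) : Set X) :=
    hc ▸ mul_mem (mul_mem (mul_mem mB mA) (inv_mem mB)) (inv_mem mA)
  have h9 : ∀ a ∈ normalizer ((P : Subgroup X) : Set X), MulAut.conj a c ∈ zpowers c →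
      a ∈ normalizer (((P : Subgroup X) ⊔ zpowers c : Subgroup X) : Set X) := fun a ha h =>
    mem_normalizer_fintype fun x hx => (sup_le (fun y hy => mem_sup_left ((mem_normalizer_iff.1 ha y).1 hy))
      (zpowers_le.2 (mem_sup_right h)) : _ ≤ ((P : Subgroup X) ⊔ zpowers c).comap (MulAut.conj a).toMonoidHom) hx
  have h10 : c ∈ (P : Subgroup X) ⊔ zpowers c := mem_sup_right (mem_zpowers c)
  have h11 : z ∈ (((P : Subgroup X) ⊔ zpowers c : Subgroup X) : Set X) := comm_le_of (s := {A, B, U})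
    (fun H h1 h2 h3 => D.lift v P (le_sup_left.trans h1) h2 (h3 _ (by simp)) (h3 _ (by simp)) (h3 _ (by simp)))
    (sup_le le_normalizer (zpowers_le.2 h8)) (center_le_normalizer _)
    (by rintro a (rfl | rfl | rfl); exacts [mA, mB, (mem_norm v P).2 D.mu])
    (by
      rintro a (rfl | rfl | rfl)
      · exact h9 _ mA (by rw [MulAut.conj_apply, ← h4.eq, mul_inv_cancel_right]; exact mem_zpowers c)
      · exact h9 _ mB (h5 ▸ npow_mem_zpowers c _)
      · exact h9 _ ((mem_norm v P).2 D.mu) (by rw [MulAut.conj_apply, h7.eq, mul_inv_cancel_right]; exact mem_zpowers c))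
    (by
      have k1 := commutatorElement_eq_one_iff_mul_comm.2 hA
      have k2 := commutatorElement_eq_one_iff_mul_comm.2 hB
      have k3 := commutatorElement_eq_one_iff_mul_comm.2 hA.symm
      have k4 := commutatorElement_eq_one_iff_mul_comm.2 hB.symm
      have k5 : ⁅A, B⁆ = c⁻¹ := by rw [hc, commutatorElement_inv]
      rintro a (rfl | rfl | rfl) b (rfl | rfl | rfl) <;>
        simp only [commutatorElement_self, k1, k2, k3, k4, k5, ← hc, one_mem, inv_mem_iff, h10]) h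
  rw [coe_mul_of_right_le_normalizer_left _ _ (zpowers_le.2 h8)] at h11
  obtain ⟨q, hq, _, ⟨k, rfl⟩, rfl⟩ := h11
  have h12 : φ q * φ c ^ k = 1 := by rw [← map_zpow, ← map_mul]; exact v.ker.ge hz
  have h13 : φ c ^ k = 1 := one_of_cop (P.isPGroup'.map φ) (eq_inv_of_mul_eq_one_right h12 ▸ inv_mem (mem_map_of_mem φ hq))
    D.cop (by rw [← zpow_natCast, ← zpow_mul, mul_comm, zpow_mul, zpow_natCast, ← map_pow, h6, map_one, one_zpow])
  rw [← orderOf_dvd_iff_zpow_eq_one, h0, D.ord] at h13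
  have h14 : c ^ k = 1 := orderOf_dvd_iff_zpow_eq_one.1 ((Int.natCast_dvd_natCast.2 (orderOf_dvd_of_pow_eq_one h6)).trans h13)
  beta_reduce at hz ⊢
  rw [h14, mul_one] at hz ⊢
  exact one_of_cop P.isPGroup' hq hm (v.card ▸ pow_card_mem hz)

theorem Dat.kk_eq {l : X → ℂ} (hl : Fl X l) : kk p (normalizer ((P : Subgroup X) : Set X)) (center X) l =
    k0 p (normalizer (((P : Subgroup X).map φ : Subgroup S) : Set S)) := by
  rw [kk_of_comm φ v.ker (center_le_normalizer _) (D.cen_comm v P hm hA hB) hl, map_normalizer φ v.surj]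

/-- **an automorphism of a double cover which fixes the lifts** -/
theorem Dat.fB_fix (h2 : m = 2) {α : MulAut X} {β : MulAut S} (h : ∀ x, φ (α x) = β (φ x)) (hZ : ∀ z ∈ center X, α z = z)
    (hP : ∀ y, α y ∈ (P : Subgroup X) ↔ y ∈ (P : Subgroup X)) (fA : α A = A) (fB' : α B = B) (fU : α U = U) {l : X → ℂ}
    (hl : Fl X l) : fB p (normalizer ((P : Subgroup X) : Set X)) l α =
      fN p (normalizer (((P : Subgroup X).map φ : Subgroup S) : Set S)) β := by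
  obtain ⟨μ, hμ⟩ := exists_mu (center_le_normalizer _) (D.cen_comm v P hm hA hB) hl
  obtain ⟨k, hk⟩ := IsPGroup.iff_card.1 P.isPGroup'
  obtain ⟨n, hn⟩ : Odd (Nat.card (P : Subgroup X)) := hk ▸ (((Fact.out : p.Prime).odd_of_ne_two fun e =>
    hm (by rw [h2, e])).pow)
  have h1 : ∀ q : normalizer ((P : Subgroup X) : Set X), (q : X) ∈ (P : Subgroup X) →
      (μ ^ Nat.card (P : Subgroup X)) q = 1 := fun q hq => by
    rw [MonoidHom.pow_apply, ← map_pow, show q ^ Nat.card (P : Subgroup X) = 1 from Subtype.ext (pow_card_mem hq), map_one]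
  have h3 : ∀ x (hx : x ∈ normalizer ((P : Subgroup X) : Set X)), α x = x → x ∈ (((μ ^ Nat.card (P : Subgroup X)).comp
      (res _ α (stab_norm hP)).toMonoidHom).eqLocus (μ ^ Nat.card (P : Subgroup X))).map (Subgroup.subtype _) :=
    fun x hx e => ⟨⟨x, hx⟩, congrArg (μ ^ Nat.card (P : Subgroup X)) (Subtype.ext e), rfl⟩
  rw [fB_twist _ (μ ^ Nat.card (P : Subgroup X)) (fun z hz => ?_) fun y y' e => ?_,
    fB_ker φ v.ker _ h fun x => (stab_norm hP x).2, map_normalizer φ v.surj]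
  · have h4 : z ^ 2 = 1 := Subtype.ext (v.card.trans h2 ▸ pow_card_mem hz :)
    rw [MonoidHom.pow_apply, ← map_pow, hn, pow_succ, pow_mul, h4, one_pow, one_mul, hμ z hz]
  · obtain ⟨x, hx, e'⟩ := D.lift v P (H := (((μ ^ Nat.card (P : Subgroup X)).comp
      (res _ α (stab_norm hP)).toMonoidHom).eqLocus (μ ^ Nat.card (P : Subgroup X))).map (Subgroup.subtype _))
      (fun q hq => ⟨⟨q, le_normalizer hq⟩, (h1 _ ((hP q).2 hq)).trans (h1 _ hq).symm, rfl⟩)
      (fun z hz => h3 z (center_le_normalizer _ hz) (hZ z hz)) (h3 _ ((mem_norm v P).2 D.ma) fA)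
      (h3 _ ((mem_norm v P).2 D.mb) fB') (h3 _ ((mem_norm v P).2 D.mu) fU) y.2
    obtain rfl : x = y := Subtype.ext e'
    exact (congrArg _ (Subtype.ext e)).trans hx

end cov

section bound

variable [Finite S] [hp : Fact p.Prime] (Q : Sylow p S)

omit [Finite S] hp in
theorem card_norm : Nat.card (normalizer ((Q : Subgroup S) : Set S)) =
    Nat.card (Q : Subgroup S) * (Q : Subgroup S).relIndex (normalizer ((Q : Subgroup S) : Set S)) := by
  rw [← ((Q : Subgroup S).subgroupOf (normalizer ((Q : Subgroup S) : Set S))).card_mul_index,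
    Nat.card_congr (subgroupOfEquivOfLe le_normalizer).toEquiv, relIndex]

theorem rel_mod {m : ℕ} (h : Nat.card S = Nat.card (Q : Subgroup S) * m) :
    (Q : Subgroup S).relIndex (normalizer ((Q : Subgroup S) : Set S)) % p = m % p := by
  have h1 := card_sylow_modEq_one p S
  rw [Q.card_eq_index_normalizer] at h1
  rw [← (Q : Subgroup S).card_mul_index, ← relIndex_mul_index (le_normalizer : (Q : Subgroup S) ≤ _)] at h
  rw [← Nat.eq_of_mul_eq_mul_left Nat.card_pos h]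
  exact ((h1.mul_left _).trans (by rw [mul_one])).symm

/-- an element of prime order `r` of the normaliser has a fixed point -/
theorem not_dvd_norm {r : ℕ} [Fact r.Prime] (h1 : Nat.card (Q : Subgroup S) % r ≠ 1 % r)
    (h : ∀ g : S, orderOf g = r → ¬ p ∣ Nat.card (centralizer ({g} : Set S))) :
    ¬ r ∣ Nat.card (normalizer ((Q : Subgroup S) : Set S)) := fun h2 => by
  obtain ⟨g, hg⟩ := exists_prime_orderOf_dvd_card' r h2
  let _ := MulAction.compHom (Q : Subgroup S) ((Q : Subgroup S).normalizerMonoidHom.comp (zpowers g).subtype)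
  have h3 := (IsPGroup.of_card (p := r) (n := 1) (G := zpowers g) (by rw [Nat.card_zpowers, hg, pow_one])
    ).card_modEq_card_fixedPoints (Q : Subgroup S)
  refine h1 (h3.trans ?_)
  rw [Nat.card_eq_one_iff_exists.2 ⟨⟨1, fun a : zpowers g => map_one ((Q : Subgroup S).normalizerMonoidHom a.1)⟩, fun x =>
    Subtype.ext (Subtype.ext (one_of_cop Q.isPGroup' x.1.2 (h g ((orderOf_coe g).trans hg)) ?_))⟩]
  exact pow_card_mem (mem_centralizer_singleton_iff.2
    (mul_inv_eq_iff_eq_mul.1 (congrArg Subtype.val (x.2 ⟨g, mem_zpowers g⟩))).symm)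

end bound

end Cfsg.Agent.MO.S.SuzL
end

-- part: MO/S/SuzL/Mdl
section
/-!
# MO, the Suzuki group : words in the group and in its covers (helper58)

* `lt LW a` : the letters; `lt LW (a + 100)` is the image under the outer automorphism; `eqv`, `he` : equality of words;
* `Syl`, `syl_of_chk` : a Sylow subgroup from a polycyclic certificate; `Syl.mt`, `Syl.mtb`, `gen_of_chk`;
* `lk_of`, `lf_of` : the local numbers of the covers.
-/

set_option autoImplicit false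
set_option linter.unusedSectionVars false

namespace Cfsg.Agent.MO.S.SuzL

open Cfsg Subgroup Cfsg.Agent.MO.T Cfsg.Agent.MO.S.Pc Cfsg.Agent.MO.L
open Cfsg.Spor (Suz)
open Cfsg.Agent.KFacts.SuzRho (rho)
open Cfsg.Agent.SporadicRecognition.SuzOrder (el finiteSuz card_Suz)
open Cfsg.Agent.H123.Cls.SuzDat (gn)
open Cfsg.Agent.MK.S.Pc (ev ev_nil ev_cons ev_append V V_le mem_V)
open scoped commutatorElement

/-- the action on the points -/
@[reducible] noncomputable def act : MulAction Suz (Fin 1782) where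
  smul g x := ⟨SporadicRecognition.SuzPhi.φ g x, SuzThree.Basic.φ_lt x x.2⟩
  one_smul x := Fin.ext (DFunLike.congr_fun (map_one SporadicRecognition.SuzPhi.φ) x.1)
  mul_smul a b x := Fin.ext (DFunLike.congr_fun (map_mul SporadicRecognition.SuzPhi.φ a b) x.1)

attribute [local instance] act

/-- the generators -/
noncomputable def g0 (x : ℕ) : Suz := el [gn x]

/-- their tables -/
noncomputable def f1 (x c : ℕ) : ℕ := SporRec.SuzCl.app (SporRec.SuzCl.tab (gn x)) c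

theorem g0_spec (a : ℕ) (x : Fin 1782) : ((g0 a • x : Fin 1782) : ℕ) = f1 a x := (SporRec.SuzCl.wtr_spec [gn a] x x.2).1

theorem base (a : Suz) (h : ∀ x : Fin 1782, x.1 ∈ [14, 98, 1, 1575, 0] → a • x = x) : a = 1 :=
  SporRec.SuzCl.eq_of_base fun q hq => by
    rw [map_one]
    exact congrArg Fin.val (h ⟨q, SporRec.SuzCl.base_lt hq⟩ hq)

theorem ev_g0 (w : List ℕ) : ev g0 w = el (w.map gn) := by
  induction w with
  | nil => rfl
  | cons a w ih => rw [ev_cons, ih, List.map_cons, SuzThree.Basic.el_cons, g0]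

theorem he0 {v w : List ℕ} (h : eqb f1 [14, 98, 1, 1575, 0] v w = true) : ev g0 v = ev g0 w :=
  eqb_sound Fin.val_injective g0_spec base v w h

theorem rho_ev {w : List ℕ} (h : w.all (Nat.blt · 7) = true) : rho (ev g0 w) = ev g0 (w.map sw) := by
  rw [ev_g0, ev_g0, KFacts.SuzRho.rho_el, List.map_map, List.map_map]
  exact congrArg el (List.map_congr_left fun x hx => (by decide : ∀ x < 7, KFacts.SuzRho.sw (gn x) = gn (sw x)) x
    (Nat.blt_eq.mp (List.all_eq_true.1 h x hx)))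

/-- the word of a letter -/
def wd (LW : List (List ℕ)) (a : ℕ) : List ℕ := if a < 100 then LW.getD a [] else (LW.getD (a - 100) []).map sw

/-- the letters -/
noncomputable def lt (LW : List (List ℕ)) (a : ℕ) : Suz := ev g0 (wd LW a)

/-- their action -/
noncomputable def fw (LW : List (List ℕ)) (a : ℕ) : ℕ → ℕ := imw f1 (wd LW a)

/-- the test of equality -/
noncomputable def eqv (LW : List (List ℕ)) : List ℕ → List ℕ → Bool := eqb (fw LW) [14, 98, 1, 1575, 0]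

variable {LW : List (List ℕ)}

theorem lt_spec (a : ℕ) (x : Fin 1782) : ((lt LW a • x : Fin 1782) : ℕ) = fw LW a x := imw_spec g0_spec _ x

theorem he : ∀ v w, eqv LW v w = true → ev (lt LW) v = ev (lt LW) w := eqb_sound Fin.val_injective lt_spec base

theorem ne_one {w : List ℕ} (h : Nat.beq (imw (fw LW) w 14) 14 = false) : ev (lt LW) w ≠ 1 := fun e => by
  have h1 := imw_spec (cd := Fin.val) (lt_spec (LW := LW)) w (⟨14, by decide⟩ : Fin 1782)
  rw [e, one_smul] at h1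
  exact Nat.ne_of_beq_eq_false h h1.symm

theorem rho_lt {a : ℕ} (ha : a < 100) (h : (LW.getD a []).all (Nat.blt · 7) = true) : rho (lt LW a) = lt LW (a + 100) := by
  rw [lt, lt, wd, wd, if_pos ha, if_neg (by omega), Nat.add_sub_cancel, rho_ev h]

/-- a Sylow subgroup -/
structure Syl (p n m : ℕ) (LW : List (List ℕ)) (Q : Sylow p Suz) : Prop where
  eq : (Q : Subgroup Suz) = V (lt LW) n 0
  le : m ≤ n
  card : Nat.card (Q : Subgroup Suz) = p ^ n
  loc : Loc p m (Q : Subgroup Suz) (lt LW)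
  idx : (_root_.commutator (Q : Subgroup Suz)).index = p ^ m
  exp : ∀ q ∈ (Q : Subgroup Suz), q ^ p ∈ ⁅(Q : Subgroup Suz), (Q : Subgroup Suz)⁆
  com : ⁅(Q : Subgroup Suz), (Q : Subgroup Suz)⁆ = V (lt LW) n m

variable {p n m : ℕ} [Fact p.Prime]

theorem syl_of_chk {c : Cert} {lv : List (ℕ × List (List ℕ))} {o : ℕ} (h1 : Pc.chk (eqv LW) p n m c = true)
    (h2 : expC n m c = true) (h3 : (chn (imw (fw LW)) (Nat.blt · 1782) n lv [] &&
      Nat.ble (p ^ n) (lv.map fun v => v.2.length).prod) = true) (ho : 448345497600 = p ^ n * o) (hp : ¬ p ∣ o) :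
    ∃ Q : Sylow p Suz, Syl p n m LW Q := by
  have h4 := pc_of_chk he h1
  have h5 : p ^ n ≤ Nat.card (V (lt LW) n 0) :=
    card_ge Fin.val_injective (fun c hc => ⟨⟨c, Nat.blt_eq ▸ hc⟩, rfl⟩) (fun u _ => imw_spec lt_spec u) h3
  obtain ⟨Q, hQ⟩ := h4.sylow h5 (card_Suz.trans ho) hp
  have h6 := exp_of_chk he h1 h2
  refine ⟨Q, hQ, h4.le, hQ ▸ h4.card_zero h5, ⟨Q.isPGroup', ?_, ?_, ?_, ?_⟩, hQ ▸ h4.index h5, hQ ▸ h6, hQ ▸ h4.comm_eq⟩ <;>
    rw [hQ]
  · exact fun j hj => mem_V (Nat.zero_le _) (hj.trans_le h4.le)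
  · exact fun j hj => h6 _ (mem_V (Nat.zero_le _) (hj.trans_le h4.le))
  · exact fun H => h4.gen
  · exact h4.relIndex h5

/-- the images of the members under `conj a * rho` -/
noncomputable def nrb (LW : List (List ℕ)) (n : ℕ) (a : List ℕ) (R : List (List ℕ)) : Bool :=
  (List.range n).all fun j => (Nat.blt j 100 && (LW.getD j []).all (Nat.blt · 7)) &&
    (Nat.ble (R.getD j []).length n && eqv LW (a ++ [j + 100]) (pwd (R.getD j []) ++ a))

namespace Syl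

variable {Q : Sylow p Suz} (h : Syl p n m LW Q) {a : List ℕ} {R : List (List ℕ)}
include h

theorem mt (hr : nrm (eqv LW) n a R = true) : ev (lt LW) a ∈ normalizer ((Q : Subgroup Suz) : Set Suz) ∧
    Mt m (Q : Subgroup Suz) (lt LW) (fun x => ev (lt LW) a * x * (ev (lt LW) a)⁻¹) R :=
  ⟨h.eq ▸ nrm_mem he hr, fun _ hj => h.com ▸ nrm_mod he hr m (hj.trans_le h.le)⟩

theorem mt1 {a : ℕ} (hr : nrm (eqv LW) n [a] R = true) : lt LW a ∈ normalizer ((Q : Subgroup Suz) : Set Suz) ∧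
    Mt m (Q : Subgroup Suz) (lt LW) (fun x => lt LW a * x * (lt LW a)⁻¹) R := by
  have h1 := h.mt hr
  rwa [ev_cons, ev_nil, mul_one] at h1

theorem mtb (hr : nrb LW n a R = true) :
    (∀ x, (MulAut.conj (ev (lt LW) a) * rho) x ∈ (Q : Subgroup Suz) ↔ x ∈ (Q : Subgroup Suz)) ∧
      Mt m (Q : Subgroup Suz) (lt LW) (MulAut.conj (ev (lt LW) a) * rho : MulAut Suz) R := by
  have h1 : ∀ j < n, (R.getD j []).length ≤ n ∧
      (MulAut.conj (ev (lt LW) a) * rho) (lt LW j) = ev (lt LW) (pwd (R.getD j [])) := fun j hj => by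
    have h2 := List.all_eq_true.1 hr j (List.mem_range.2 hj)
    simp only [Bool.and_eq_true, Nat.ble_eq] at h2
    have h3 := he _ _ h2.2.2
    rw [ev_append, ev_append, ev_cons, ev_nil, mul_one] at h3
    exact ⟨h2.2.1, by rw [MulAut.mul_apply, rho_lt (Nat.blt_eq.mp h2.1.1) h2.1.2, MulAut.conj_apply, h3, mul_inv_cancel_right]⟩
  refine ⟨MK.T.stab_of_le ?_, fun j hj => ?_⟩
  · rw [h.eq]
    exact V_le (H := (V (lt LW) n 0).comap (MulAut.conj (ev (lt LW) a) * rho).toMonoidHom) fun j _ hj =>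
      mem_comap.2 (((h1 j hj).2.symm ▸ pwd_mem (h1 j hj).1 : (MulAut.conj (ev (lt LW) a) * rho) (lt LW j) ∈ _))
  · rw [(h1 j (hj.trans_le h.le)).2, h.com]
    exact pwd_mod (h1 j (hj.trans_le h.le)).1 m

end Syl

theorem gen_of_chk {X : Type} [Group X] [Finite X] {Q H : Subgroup X} {q : ℕ → X} (h : Loc p m Q q)
    (hn : Nat.card (normalizer (Q : Set X)) ≤ Nat.card Q * n) (hQ : Q ≤ H) {Ms : List (List (List ℕ))}
    (hM : ∀ M ∈ Ms, ∃ g ∈ normalizer (Q : Set X) ⊓ H, Mt m Q q (fun x => g * x * g⁻¹) M) {prog : List ℕ} {c : ℕ}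
    (hc : chkM p m Ms (idM m) prog n c = true) : normalizer (Q : Set X) ≤ H :=
  inf_eq_left.1 (eq_of_le_of_card_ge inf_le_left (hn.trans (fN_card_of_chk h (le_inf le_normalizer hQ) inf_le_left
    ((card_le_of_le inf_le_left).trans hn) hM (fun _ => Iff.rfl) (fun _ => Iff.rfl) h.mt_one hc).2.ge))

/-! ### the covers -/

namespace Mod

variable {X : Type} [Group X] {φ : X →* Suz} (M : Mod m φ)

theorem φ_ev (w : List ℕ) : φ (ev M.y w) = ev g0 w := by
  induction w with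
  | nil => exact map_one φ
  | cons a w ih => rw [ev_cons, ev_cons, map_mul, ih, M.φy, g0]

theorem eq {v w r : List ℕ} {k : ℕ} (h : (eqY v k w r && eqb f1 [14, 98, 1, 1575, 0] v w) = true) :
    ev M.y v = M.j ^ k * ev M.y w := by
  rw [Bool.and_eq_true] at h
  exact M.rel v k w r h.1 (by rw [← ev_g0, ← ev_g0, he0 h.2])

theorem comm {v w r : List ℕ} (h : (eqY (v ++ w) 0 (w ++ v) r && eqb f1 [14, 98, 1, 1575, 0] (v ++ w) (w ++ v)) = true) :
    ev M.y v * ev M.y w = ev M.y w * ev M.y v := by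
  rw [← ev_append, ← ev_append, M.eq h, pow_zero, one_mul]

theorem aut_ev {α : MulAut X} (h : ∀ x, φ (α x) = rho (φ x)) {w : List ℕ} (hw : w.all (Nat.blt · 7) = true) :
    α (ev M.y w) = ev M.y (w.map sw) := by
  rw [ev, ev, map_list_prod, List.map_map, List.map_map]
  exact congrArg List.prod (List.map_congr_left fun x hx => (M.aut α h).2 x (Nat.blt_eq.mp (List.all_eq_true.1 hw x hx)))

end Mod

theorem exists_lift {X : Type} [Group X] [Finite X] {φ : X →* Suz} (v : Cv m φ) (Q : Sylow p Suz) :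
    ∃ P : Sylow p X, (P : Subgroup X).map φ = Q :=
  (Sylow.mapSurjective_surjective v.surj p Q).imp fun _ h => congrArg Sylow.toSubgroup h

theorem lk_of {e c : ℕ} {Q : Sylow p Suz} {a b u : List ℕ} (D : Dat p e (Q : Subgroup Suz) (ev g0 a) (ev g0 b) (ev g0 u))
    (hm : ¬ p ∣ m) (hc : k0 p (normalizer ((Q : Subgroup Suz) : Set Suz)) = c)
    (h : ∀ (X : Type) [Group X] (φ : X →* Suz) (M : Mod m φ),
      ev M.y u * ev M.y a = ev M.y a * ev M.y u ∧ ev M.y u * ev M.y b = ev M.y b * ev M.y u) : LK p m Suz c := by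
  intro X _ _ φ v _
  obtain ⟨M⟩ := exists_mod v
  obtain ⟨P, hP⟩ := exists_lift v Q
  rw [← M.φ_ev, ← M.φ_ev, ← M.φ_ev, ← hP] at D
  exact ⟨P, fun l hl => by rw [D.kk_eq v P hm (h X φ M).1 (h X φ M).2 hl, hP, hc]⟩

theorem lf_of {c : ℕ} (h : ∀ (X : Type) [Group X] [Finite X] (φ : X →* Suz), Cv m φ → ∀ α : MulAut X,
    (∀ z ∈ center X, α z = z) → (∀ x, φ (α x) = rho (φ x)) → ∃ (Q : Sylow p X) (x : X),
      (∀ y, (MulAut.conj x * α) y ∈ (Q : Subgroup X) ↔ y ∈ (Q : Subgroup X)) ∧ ∀ l, Fl X l →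
        fB p (normalizer ((Q : Subgroup X) : Set X)) l (MulAut.conj x * α) = c) : LF p m Suz c := by
  intro X _ _ φ v _ α h1 h2
  obtain ⟨δ, hδ⟩ := MK.T.exists_ind φ v.surj v.ker α
  obtain ⟨s, rfl | rfl⟩ := out δ
  · exact absurd (inn_of_ind v fun x => (hδ x).symm) h2
  obtain ⟨s, rfl⟩ := v.surj s
  obtain ⟨Q, x, h3⟩ := h X φ v (MulAut.conj s⁻¹ * α)
    (fun z hz => by rw [MulAut.mul_apply, h1 z hz, MulAut.conj_apply, mem_center_iff.1 hz, mul_inv_cancel_right])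
    fun x => by simp [← hδ, mul_assoc]
  exact ⟨Q, x * s⁻¹, by rwa [map_mul, mul_assoc]⟩

end Cfsg.Agent.MO.S.SuzL
end

-- part: MO/S/B7/Dat
section
/-!
# MO, the Baby Monster, `p = 7` : the matrices (helper63)

The two subgroups `3 × 2S4` of `GL2(7)` which contain `diag(1, 2)`, their subgroups of index two, the certificates.
-/

set_option autoImplicit false
set_option maxRecDepth 100000
set_option synthInstance.maxSize 1000

namespace Cfsg.Agent.MO.S.B7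

open Cfsg.Agent.MO.S.M7 Cfsg.Agent.TAB.Eng

/-- the unit matrix -/
def one4 : Q4 := (1, 0, 0, 1)

/-- the matrix of order three -/
def g4 : Q4 := (1, 0, 0, 2)

/-- words in `g4` and `h` -/
def ev (h : Q4) (w : List ℕ) : Q4 := w.foldl (fun r b => mul 7 r (cond (b.beq 0) g4 h)) one4

/-- powers -/
def pw (a : Q4) : ℕ → Q4
  | 0 => one4
  | k + 1 => mul 7 (pw a k) a

/-- singular, or the order is divisible by seven -/
def bad (a : Q4) : Bool :=
  ((a.1 * a.2.2.2 + 6 * (a.2.1 * a.2.2.1)) % 7).beq 0 ||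
    ((((a.1 + a.2.2.2) * (a.1 + a.2.2.2) + 3 * (a.1 * a.2.2.2 + 6 * (a.2.1 * a.2.2.1))) % 7).beq 0 &&
      !(a.2.1.beq 0 && a.2.2.1.beq 0 && a.1.beq a.2.2.2))

/-- every element is the product of an earlier one with a generator -/
def chn (u : Q4) : List Q4 → List Q4 → Bool
  | _, [] => true
  | acc, q :: r => (acc.any fun x => eqQ (mul 7 x g4) q || eqQ (mul 7 x u) q) && chn u (q :: acc) r

/-- words which exclude a second generator -/
def W1 : List (List ℕ) :=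
  [[0, 0, 1, 0, 0, 1, 0, 1, 1, 0, 1, 1], [0, 1, 0, 1, 0, 1, 0, 1, 1, 1], [0, 0, 1, 1, 0, 1, 1], [0, 0, 1, 0, 0, 1, 0,
  1, 0, 1, 1, 1], [0, 0, 1, 1]]

/-- words which exclude a third generator -/
def W2 : List (List ℕ × List ℕ) :=
  [([1, 1, 1, 1], [0]), ([0, 1, 1, 0], [0, 1]), ([0, 1, 0], [1, 0]), ([0, 1, 0, 0], [1]), ([1, 0, 0], [0, 1]),
  ([0, 0, 1, 0], [1, 0]), ([1, 0, 1, 0], [0, 0]), ([0, 1, 0], [1]), ([0, 0, 1], [0, 1]), ([0, 0, 1, 1], []),
  ([1, 0, 0], [1]), ([0, 0, 1], [0, 0]), ([0, 0], [0, 0])]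

/-- the first subgroup -/
def L1 : List Q4 :=
  [(0, 1, 3, 0), (0, 1, 5, 0), (0, 1, 6, 0), (0, 2, 3, 0), (0, 2, 5, 0), (0, 2, 6, 0), (0, 3, 1, 0), (0, 3, 2, 0),
  (0, 3, 4, 0), (0, 4, 3, 0), (0, 4, 5, 0), (0, 4, 6, 0), (0, 5, 1, 0), (0, 5, 2, 0), (0, 5, 4, 0), (0, 6, 1, 0),
  (0, 6, 2, 0), (0, 6, 4, 0), (1, 0, 0, 1), (1, 0, 0, 2), (1, 0, 0, 4), (1, 1, 1, 5), (1, 1, 2, 3), (1, 1, 4, 6),
  (1, 2, 1, 3), (1, 2, 2, 6), (1, 2, 4, 5), (1, 3, 3, 6), (1, 3, 5, 3), (1, 3, 6, 5), (1, 4, 1, 6), (1, 4, 2, 5),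
  (1, 4, 4, 3), (1, 5, 3, 3), (1, 5, 5, 5), (1, 5, 6, 6), (1, 6, 3, 5), (1, 6, 5, 6), (1, 6, 6, 3), (2, 0, 0, 1),
  (2, 0, 0, 2), (2, 0, 0, 4), (2, 1, 1, 6), (2, 1, 2, 5), (2, 1, 4, 3), (2, 2, 1, 5), (2, 2, 2, 3), (2, 2, 4, 6),
  (2, 3, 3, 3), (2, 3, 5, 5), (2, 3, 6, 6), (2, 4, 1, 3), (2, 4, 2, 6), (2, 4, 4, 5), (2, 5, 3, 5), (2, 5, 5, 6),
  (2, 5, 6, 3), (2, 6, 3, 6), (2, 6, 5, 3), (2, 6, 6, 5), (3, 0, 0, 3), (3, 0, 0, 5), (3, 0, 0, 6), (3, 1, 1, 1),
  (3, 1, 2, 2), (3, 1, 4, 4), (3, 2, 1, 2), (3, 2, 2, 4), (3, 2, 4, 1), (3, 3, 3, 1), (3, 3, 5, 4), (3, 3, 6, 2),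
  (3, 4, 1, 4), (3, 4, 2, 1), (3, 4, 4, 2), (3, 5, 3, 4), (3, 5, 5, 2), (3, 5, 6, 1), (3, 6, 3, 2), (3, 6, 5, 1),
  (3, 6, 6, 4), (4, 0, 0, 1), (4, 0, 0, 2), (4, 0, 0, 4), (4, 1, 1, 3), (4, 1, 2, 6), (4, 1, 4, 5), (4, 2, 1, 6),
  (4, 2, 2, 5), (4, 2, 4, 3), (4, 3, 3, 5), (4, 3, 5, 6), (4, 3, 6, 3), (4, 4, 1, 5), (4, 4, 2, 3), (4, 4, 4, 6),
  (4, 5, 3, 6), (4, 5, 5, 3), (4, 5, 6, 5), (4, 6, 3, 3), (4, 6, 5, 5), (4, 6, 6, 6), (5, 0, 0, 3), (5, 0, 0, 5),
  (5, 0, 0, 6), (5, 1, 1, 2), (5, 1, 2, 4), (5, 1, 4, 1), (5, 2, 1, 4), (5, 2, 2, 1), (5, 2, 4, 2), (5, 3, 3, 2),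
  (5, 3, 5, 1), (5, 3, 6, 4), (5, 4, 1, 1), (5, 4, 2, 2), (5, 4, 4, 4), (5, 5, 3, 1), (5, 5, 5, 4), (5, 5, 6, 2),
  (5, 6, 3, 4), (5, 6, 5, 2), (5, 6, 6, 1), (6, 0, 0, 3), (6, 0, 0, 5), (6, 0, 0, 6), (6, 1, 1, 4), (6, 1, 2, 1),
  (6, 1, 4, 2), (6, 2, 1, 1), (6, 2, 2, 2), (6, 2, 4, 4), (6, 3, 3, 4), (6, 3, 5, 2), (6, 3, 6, 1), (6, 4, 1, 2),
  (6, 4, 2, 4), (6, 4, 4, 1), (6, 5, 3, 2), (6, 5, 5, 1), (6, 5, 6, 4), (6, 6, 3, 1), (6, 6, 5, 4), (6, 6, 6, 2)]

/-- the even part of the first subgroup -/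
def E1 : List Q4 :=
  [(1, 0, 0, 1), (1, 0, 0, 2), (1, 3, 6, 5), (1, 0, 0, 4), (1, 3, 5, 3), (1, 6, 6, 3), (5, 4, 1, 1), (1, 3, 3, 6),
  (1, 6, 5, 6), (5, 4, 2, 2), (1, 5, 6, 6), (2, 5, 3, 5), (5, 1, 1, 2), (1, 6, 3, 5), (5, 4, 4, 4), (1, 5, 5, 5),
  (2, 5, 6, 3), (5, 1, 2, 4), (3, 0, 0, 6), (2, 3, 3, 3), (4, 3, 5, 6), (5, 2, 1, 4), (4, 6, 6, 6), (1, 5, 3, 3),
  (2, 5, 5, 6), (5, 1, 4, 1), (3, 0, 0, 5), (2, 3, 6, 6), (4, 3, 3, 5), (5, 2, 2, 1), (4, 6, 5, 5), (3, 2, 1, 2),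
  (2, 6, 3, 6), (6, 0, 0, 3), (3, 4, 4, 2), (4, 5, 6, 5), (5, 0, 0, 6), (3, 0, 0, 3), (2, 3, 5, 5), (4, 3, 6, 3),
  (5, 2, 4, 2), (4, 6, 3, 3), (3, 2, 2, 4), (2, 6, 6, 5), (6, 0, 0, 6), (3, 4, 1, 4), (4, 5, 5, 3), (5, 0, 0, 5),
  (3, 1, 4, 4), (6, 4, 4, 1), (6, 1, 2, 1), (6, 2, 1, 1), (3, 2, 4, 1), (2, 6, 5, 3), (6, 0, 0, 5), (3, 4, 2, 1),
  (4, 5, 3, 6), (5, 0, 0, 3), (3, 1, 1, 1), (6, 4, 1, 2), (6, 1, 4, 2), (6, 2, 2, 2), (2, 0, 0, 4), (4, 0, 0, 1),
  (3, 1, 2, 2), (6, 4, 2, 4), (6, 1, 1, 4), (6, 2, 4, 4), (2, 0, 0, 1), (4, 0, 0, 2), (2, 0, 0, 2), (4, 0, 0, 4)]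

/-- the 2-elements of the first subgroup -/
def T1 : List Q4 :=
  [(0, 1, 6, 0), (0, 2, 3, 0), (0, 3, 2, 0), (0, 4, 5, 0), (0, 5, 4, 0), (0, 6, 1, 0), (1, 0, 0, 1), (1, 1, 2, 3),
  (1, 2, 1, 3), (1, 4, 4, 3), (2, 1, 2, 5), (2, 2, 1, 5), (2, 4, 4, 5), (3, 1, 4, 4), (3, 2, 2, 4), (3, 3, 3, 1),
  (3, 4, 1, 4), (3, 5, 6, 1), (3, 6, 5, 1), (4, 1, 2, 6), (4, 2, 1, 6), (4, 3, 6, 3), (4, 4, 4, 6), (4, 5, 5, 3),
  (4, 6, 3, 3), (5, 3, 3, 2), (5, 5, 6, 2), (5, 6, 5, 2), (6, 0, 0, 6), (6, 3, 3, 4), (6, 5, 6, 4), (6, 6, 5, 4)]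

/-- the second subgroup -/
def L2 : List Q4 :=
  [(0, 1, 3, 0), (0, 1, 5, 0), (0, 1, 6, 0), (0, 2, 3, 0), (0, 2, 5, 0), (0, 2, 6, 0), (0, 3, 1, 0), (0, 3, 2, 0),
  (0, 3, 4, 0), (0, 4, 3, 0), (0, 4, 5, 0), (0, 4, 6, 0), (0, 5, 1, 0), (0, 5, 2, 0), (0, 5, 4, 0), (0, 6, 1, 0),
  (0, 6, 2, 0), (0, 6, 4, 0), (1, 0, 0, 1), (1, 0, 0, 2), (1, 0, 0, 4), (1, 1, 1, 3), (1, 1, 2, 6), (1, 1, 4, 5),
  (1, 2, 1, 6), (1, 2, 2, 5), (1, 2, 4, 3), (1, 3, 3, 3), (1, 3, 5, 5), (1, 3, 6, 6), (1, 4, 1, 5), (1, 4, 2, 3),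
  (1, 4, 4, 6), (1, 5, 3, 5), (1, 5, 5, 6), (1, 5, 6, 3), (1, 6, 3, 6), (1, 6, 5, 3), (1, 6, 6, 5), (2, 0, 0, 1),
  (2, 0, 0, 2), (2, 0, 0, 4), (2, 1, 1, 5), (2, 1, 2, 3), (2, 1, 4, 6), (2, 2, 1, 3), (2, 2, 2, 6), (2, 2, 4, 5),
  (2, 3, 3, 5), (2, 3, 5, 6), (2, 3, 6, 3), (2, 4, 1, 6), (2, 4, 2, 5), (2, 4, 4, 3), (2, 5, 3, 6), (2, 5, 5, 3),
  (2, 5, 6, 5), (2, 6, 3, 3), (2, 6, 5, 5), (2, 6, 6, 6), (3, 0, 0, 3), (3, 0, 0, 5), (3, 0, 0, 6), (3, 1, 1, 4),
  (3, 1, 2, 1), (3, 1, 4, 2), (3, 2, 1, 1), (3, 2, 2, 2), (3, 2, 4, 4), (3, 3, 3, 2), (3, 3, 5, 1), (3, 3, 6, 4),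
  (3, 4, 1, 2), (3, 4, 2, 4), (3, 4, 4, 1), (3, 5, 3, 1), (3, 5, 5, 4), (3, 5, 6, 2), (3, 6, 3, 4), (3, 6, 5, 2),
  (3, 6, 6, 1), (4, 0, 0, 1), (4, 0, 0, 2), (4, 0, 0, 4), (4, 1, 1, 6), (4, 1, 2, 5), (4, 1, 4, 3), (4, 2, 1, 5),
  (4, 2, 2, 3), (4, 2, 4, 6), (4, 3, 3, 6), (4, 3, 5, 3), (4, 3, 6, 5), (4, 4, 1, 3), (4, 4, 2, 6), (4, 4, 4, 5),
  (4, 5, 3, 3), (4, 5, 5, 5), (4, 5, 6, 6), (4, 6, 3, 5), (4, 6, 5, 6), (4, 6, 6, 3), (5, 0, 0, 3), (5, 0, 0, 5),
  (5, 0, 0, 6), (5, 1, 1, 1), (5, 1, 2, 2), (5, 1, 4, 4), (5, 2, 1, 2), (5, 2, 2, 4), (5, 2, 4, 1), (5, 3, 3, 4),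
  (5, 3, 5, 2), (5, 3, 6, 1), (5, 4, 1, 4), (5, 4, 2, 1), (5, 4, 4, 2), (5, 5, 3, 2), (5, 5, 5, 1), (5, 5, 6, 4),
  (5, 6, 3, 1), (5, 6, 5, 4), (5, 6, 6, 2), (6, 0, 0, 3), (6, 0, 0, 5), (6, 0, 0, 6), (6, 1, 1, 2), (6, 1, 2, 4),
  (6, 1, 4, 1), (6, 2, 1, 4), (6, 2, 2, 1), (6, 2, 4, 2), (6, 3, 3, 1), (6, 3, 5, 4), (6, 3, 6, 2), (6, 4, 1, 1),
  (6, 4, 2, 2), (6, 4, 4, 4), (6, 5, 3, 4), (6, 5, 5, 2), (6, 5, 6, 1), (6, 6, 3, 2), (6, 6, 5, 1), (6, 6, 6, 4)]

/-- the even part of the second subgroup -/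
def E2 : List Q4 :=
  [(1, 0, 0, 1), (1, 0, 0, 2), (1, 1, 4, 5), (1, 0, 0, 4), (1, 1, 1, 3), (1, 2, 4, 3), (5, 6, 3, 1), (1, 1, 2, 6),
  (1, 2, 1, 6), (5, 6, 6, 2), (1, 4, 4, 6), (2, 4, 2, 5), (5, 5, 3, 2), (1, 2, 2, 5), (5, 6, 5, 4), (1, 4, 1, 5),
  (2, 4, 4, 3), (5, 5, 6, 4), (3, 0, 0, 6), (2, 1, 2, 3), (4, 1, 1, 6), (5, 3, 3, 4), (4, 2, 4, 6), (1, 4, 2, 3),
  (2, 4, 1, 6), (5, 5, 5, 1), (3, 0, 0, 5), (2, 1, 4, 6), (4, 1, 2, 5), (5, 3, 6, 1), (4, 2, 1, 5), (3, 3, 3, 2),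
  (2, 2, 2, 6), (6, 0, 0, 3), (3, 6, 5, 2), (4, 4, 4, 5), (5, 0, 0, 6), (3, 0, 0, 3), (2, 1, 1, 5), (4, 1, 4, 3),
  (5, 3, 5, 2), (4, 2, 2, 3), (3, 3, 6, 4), (2, 2, 4, 5), (6, 0, 0, 6), (3, 6, 3, 4), (4, 4, 1, 3), (5, 0, 0, 5),
  (3, 5, 5, 4), (6, 6, 5, 1), (6, 5, 6, 1), (6, 3, 3, 1), (3, 3, 5, 1), (2, 2, 1, 3), (6, 0, 0, 5), (3, 6, 6, 1),
  (4, 4, 2, 6), (5, 0, 0, 3), (3, 5, 3, 1), (6, 6, 3, 2), (6, 5, 5, 2), (6, 3, 6, 2), (2, 0, 0, 4), (4, 0, 0, 1),
  (3, 5, 6, 2), (6, 6, 6, 4), (6, 5, 3, 4), (6, 3, 5, 4), (2, 0, 0, 1), (4, 0, 0, 2), (2, 0, 0, 2), (4, 0, 0, 4)]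

/-- the 2-elements of the second subgroup -/
def T2 : List Q4 :=
  [(0, 1, 6, 0), (0, 2, 3, 0), (0, 3, 2, 0), (0, 4, 5, 0), (0, 5, 4, 0), (0, 6, 1, 0), (1, 0, 0, 1), (1, 3, 3, 3),
  (1, 5, 6, 3), (1, 6, 5, 3), (2, 3, 3, 5), (2, 5, 6, 5), (2, 6, 5, 5), (3, 1, 2, 1), (3, 2, 1, 1), (3, 3, 6, 4),
  (3, 4, 4, 1), (3, 5, 5, 4), (3, 6, 3, 4), (4, 1, 4, 3), (4, 2, 2, 3), (4, 3, 3, 6), (4, 4, 1, 3), (4, 5, 6, 6),
  (4, 6, 5, 6), (5, 1, 2, 2), (5, 2, 1, 2), (5, 4, 4, 2), (6, 0, 0, 6), (6, 1, 2, 4), (6, 2, 1, 4), (6, 4, 4, 4)]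

/-- evaluate a matrix before passing it on -/
noncomputable def frq (a : Q4) (k : Q4 → Bool) : Bool :=
  frc a.1 fun x => frc a.2.1 fun y => frc a.2.2.1 fun z => frc a.2.2.2 fun w => k (x, y, z, w)

theorem frq_eq (a : Q4) (k : Q4 → Bool) : frq a k = k a := by simp only [frq, frc_eq]

/-- evaluate a list of pairs of matrices before passing it on -/
noncomputable def frp (l : List (Q4 × Q4)) : (List (Q4 × Q4) → Bool) → Bool :=
  List.rec (fun k => k []) (fun a _ ih k => frq a.1 fun x => frq a.2 fun y => ih fun l' => k ((x, y) :: l')) l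

theorem frp_eq (l : List (Q4 × Q4)) (k : List (Q4 × Q4) → Bool) : frp l k = k l := by
  induction l generalizing k with
  | nil => rfl
  | cons a l ih =>
    exact (frq_eq a.1 fun x => frq a.2 fun y => frp l fun l' => k ((x, y) :: l')).trans
      ((frq_eq a.2 fun y => frp l fun l' => k ((a.1, y) :: l')).trans (ih fun l' => k (a :: l')))

/-- the matrices which are not excluded are in the list -/
noncomputable def st2 (h : Q4) (L : List Q4) : Bool :=
  frp (W2.map fun w => (ev h w.1, ev h w.2)) fun P => (allQ 7).all fun A => frq A fun A => bad A ||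
    (P.any fun w => frq (mul 7 A w.1) fun B => frq (mul 7 B A) fun C => frq (mul 7 C w.2) bad) || L.any (eqQ A)

/-- what is needed of the lists -/
def okL (L E T : List Q4) (u : Q4) : Prop :=
  L.length = 144 ∧ cnt 7 L = 27 * 144 ∧ E.Nodup ∧ E.length = 72 ∧ cnt 7 E = 27 * 72 ∧ u ∈ L ∧ pw u 4 = u ∧
    E.head? = some one4 ∧ chn u [one4] E.tail = true ∧ (∀ A ∈ L, pw A 9 ∈ T) ∧
    ∀ X ∈ T, ∀ Y ∈ T, mul 7 X Y = mul 7 Y X → ∃ j < 8, Y = pw X j ∨ X = pw Y j

/-! ### kernel-fast forms -/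

private def dt (a e b g : ℕ) : ℕ := Nat.mod (Nat.add (Nat.mul a e) (Nat.mul b g)) 7

private noncomputable def unq (q : Q4) (k : ℕ → ℕ → ℕ → ℕ → Bool) : Bool :=
  Prod.rec (fun a r => Prod.rec (fun b r => Prod.rec (fun c d => k a b c d) r) r) q

private def cmF (a b c d e f g h : ℕ) : Bool :=
  Nat.beq (dt a e b g) (dt e a f c) && Nat.beq (dt a f b h) (dt e b f d) && Nat.beq (dt c e d g) (dt g a h c) &&
    Nat.beq (dt c f d h) (dt g b h d)

private noncomputable def cntK (p : Q4 → Bool) (L : List Q4) : ℕ :=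
  List.rec 0 (fun B _ ih => Bool.rec ih (Nat.succ ih) (p B)) L

private theorem cntK_eq (p : Q4 → Bool) (L : List Q4) : cntK p L = L.countP p := by
  induction L with
  | nil => rfl
  | cons B L ih =>
    rw [List.countP_cons, ← ih]
    show (Bool.rec (cntK p L) (Nat.succ (cntK p L)) (p B) : ℕ) = _
    cases p B <;> rfl

private noncomputable def rowK (L : List Q4) (A : Q4) : ℕ :=
  Prod.rec (fun a r => Prod.rec (fun b r => Prod.rec (fun c d => cntK (fun B => unq B (cmF a b c d)) L) r) r) A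

private noncomputable def cpF (L : List Q4) : ℕ := (L.map (rowK L)).sum

private theorem cp_eq : cp 7 = cpF := funext fun L => congrArg (fun r : Q4 → ℕ => (L.map r).sum) <|
  funext fun ⟨a, b, c, d⟩ => ((cntK_eq (fun B => unq B (cmF a b c d)) L).trans
    (congrArg (fun p : Q4 → Bool => L.countP p) (funext fun ⟨_, _, _, _⟩ => rfl))).symm

private noncomputable def cntF (L : List Q4) : ℕ :=
  ((List.range 7).map fun x => ((List.range 7).map fun y => cpF (L.filter (fix 7 x y))).sum).sum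

private theorem cnt_eq : cnt 7 = cntF :=
  congrArg (fun (r : List Q4 → ℕ) (L : List Q4) => ((List.range 7).map fun x => ((List.range 7).map fun y =>
    r (L.filter (fix 7 x y))).sum).sum) cp_eq

private noncomputable def mK (a b c d e f g h : ℕ) (k : ℕ → ℕ → ℕ → ℕ → Bool) : Bool :=
  frc (dt a e b g) fun x => frc (dt a f b h) fun y => frc (dt c e d g) fun z => frc (dt c f d h) fun w => k x y z w

private theorem mK_eq (a b c d e f g h : ℕ) (k : ℕ → ℕ → ℕ → ℕ → Bool) :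
    mK a b c d e f g h k = k (dt a e b g) (dt a f b h) (dt c e d g) (dt c f d h) := by
  delta mK
  rw [frc_eq, frc_eq, frc_eq, frc_eq]

private def bq (x y z w : ℕ) : Bool := bad (x, y, z, w)

private noncomputable def step (e f g h e' f' g' h' : ℕ) (F : ℕ → ℕ → ℕ → ℕ → Bool) (a b c d : ℕ) : Bool :=
  Bool.rec (F a b c d) true (mK a b c d e f g h fun x y z w => mK x y z w a b c d fun x y z w => mK x y z w e' f' g' h' bq)

private theorem bo (x y : Bool) : (Bool.rec x true y : Bool) = (y || x) := by cases y <;> rfl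

private theorem bl {x y z t : Bool} (h1 : (Bool.rec (Bool.rec x true y) true z : Bool) = true)
    (h2 : (Bool.rec true t y : Bool) = true) : (z || x || t) = true := by
  revert h1 h2
  cases x <;> cases y <;> cases z <;> cases t <;> decide

private theorem step_eq (e f g h e' f' g' h' : ℕ) (F : ℕ → ℕ → ℕ → ℕ → Bool) (a b c d : ℕ) :
    step e f g h e' f' g' h' F a b c d =
      (bad (mul 7 (mul 7 (mul 7 (a, b, c, d) (e, f, g, h)) (a, b, c, d)) (e', f', g', h')) || F a b c d) := by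
  delta step
  rw [mK_eq, mK_eq, mK_eq]
  exact bo _ _

private noncomputable def build (P : List (Q4 × Q4)) : ((ℕ → ℕ → ℕ → ℕ → Bool) → Bool) → Bool :=
  List.rec (fun k => k fun _ _ _ _ => false) (fun w _ ih k => frq w.1 fun x => unq x fun e f g h => frq w.2 fun y =>
    unq y fun e' f' g' h' => ih fun F => k (step e f g h e' f' g' h' F)) P

private theorem build_eq (P : List (Q4 × Q4)) (k : (ℕ → ℕ → ℕ → ℕ → Bool) → Bool) : build P k =
    k fun a b c d => P.any fun w => bad (mul 7 (mul 7 (mul 7 (a, b, c, d) w.1) (a, b, c, d)) w.2) := by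
  induction P generalizing k with
  | nil => rfl
  | cons w P ih =>
    obtain ⟨⟨e, f, g, h⟩, e', f', g', h'⟩ := w
    refine (frq_eq (e, f, g, h) fun x => unq x fun e f g h => frq (e', f', g', h') fun y =>
      unq y fun e' f' g' h' => build P fun F => k (step e f g h e' f' g' h' F)).trans ?_
    refine (frq_eq (e', f', g', h') fun y => unq y fun e' f' g' h' => build P fun F =>
      k (step e f g h e' f' g' h' F)).trans ?_
    refine (ih fun F => k (step e f g h e' f' g' h' F)).trans (congrArg k ?_)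
    funext a b c d
    rw [step_eq, List.any_cons]

private noncomputable def all7 (f : ℕ → Bool) : Bool := allL f [0, 1, 2, 3, 4, 5, 6]

private theorem all7_spec {f : ℕ → Bool} (h : all7 f = true) {a : ℕ} (ha : a ∈ List.range 7) : f a = true :=
  allL_spec h a ha

private def inM (m a b c d : ℕ) : Bool :=
  Nat.beq (Nat.land (Nat.shiftRight m (Nat.add (Nat.mul (Nat.add (Nat.mul (Nat.add (Nat.mul a 7) b) 7) c) 7) d)) 1) 1

private noncomputable def stF (h : Q4) (m : ℕ) : Bool :=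
  build (W2.map fun w => (ev h w.1, ev h w.2)) fun F => all7 fun a => all7 fun b => all7 fun c => all7 fun d =>
    Bool.rec (Bool.rec (F a b c d) true (inM m a b c d)) true (bq a b c d)

private noncomputable def mOk (m : ℕ) (L : List Q4) : Bool :=
  all7 fun a => all7 fun b => all7 fun c => all7 fun d => Bool.rec true (L.any (eqQ (a, b, c, d))) (inM m a b c d)

private theorem st2_of {h : Q4} {m : ℕ} {L : List Q4} (hm : mOk m L = true) (hs : stF h m = true) : st2 h L = true := by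
  delta stF at hs
  rw [build_eq] at hs
  delta st2
  rw [frp_eq]
  refine List.all_eq_true.2 fun A hA => ?_
  obtain ⟨a, ha, hA⟩ := List.mem_flatMap.1 hA
  obtain ⟨b, hb, hA⟩ := List.mem_flatMap.1 hA
  obtain ⟨c, hc, hA⟩ := List.mem_flatMap.1 hA
  obtain ⟨d, hd, rfl⟩ := List.mem_map.1 hA
  have h1 := all7_spec (all7_spec (all7_spec (all7_spec hs ha) hb) hc) hd
  have h2 := all7_spec (all7_spec (all7_spec (all7_spec hm ha) hb) hc) hd
  simp only [frq_eq]
  exact bl h1 h2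

private def m1 : ℕ := 0x108000400000200800400000000008010080010400400000000010001010000002000440000000000001a0104004000000108000400000000080008080100400200000000008001100000002004020000000000003440400040000010080100000000004000210001100020000000000200208000000400200800000000000016200800400000020800800000000008001100010800040000000001002010000004000404000000000000d080400800000011000200000000008004010020200020000000004000210000000400410000000000000058440008000001010001000000000040041000201002000000000040020080000040002100000000000000b00000400102000000200081000408002000000000080020400102000800000081000400000000000000000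

private def m2 : ℕ := 0x401000800000041001000000000040004040021000080000000004000880000001002010000000000001a0210000800000401000800000000020004400020800800000000004008040000010001010000000000003408800100000020200020000000002001004004020040000000001000084000000100104000000000000016041001000000042000100000000004008040040100080000000008000808000001000220000000000000d101000100000040200400000000002002080004400080000000002001004000002000108000000000000059008010000000220004000000000200010800404000400000000010010400000020010040000000000000b00000400102000000200081000408002000000000080020400102000800000081000400000000000000000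

private noncomputable def _root_.Cfsg.Agent.LsF.fd6400f_0 : {f // @Cfsg.Agent.TAB.Eng.allL = f} := ⟨_, by first | (delta Cfsg.Agent.TAB.Eng.allL; rewrite [Cfsg.Agent.LsF.cond_eq]; exact rfl) | exact rfl⟩
private noncomputable def _root_.Cfsg.Agent.LsF.fd6400f_1 : {f // @Cfsg.Agent.MO.S.B7.all7 = f} := ⟨_, by first | (delta Cfsg.Agent.MO.S.B7.all7; rewrite [Cfsg.Agent.LsF.fd6400f_0.2]; exact rfl) | exact rfl⟩
private noncomputable def _root_.Cfsg.Agent.LsF.fd6400f_2 : {f // @Cfsg.Agent.MO.S.M7.eqQ = f} := ⟨_, by first | (delta Cfsg.Agent.MO.S.M7.eqQ; rewrite [Cfsg.Agent.LsF.and_eq]; exact rfl) | exact rfl⟩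
private noncomputable def _root_.Cfsg.Agent.LsF.fd6400f_3 : {f // @Cfsg.Agent.MO.S.B7.mOk = f} := ⟨_, by first | (delta Cfsg.Agent.MO.S.B7.mOk; rewrite [Cfsg.Agent.LsF.fd6400f_1.2, Cfsg.Agent.LsF.fd6400f_2.2, Cfsg.Agent.LsF.any_eq]; exact rfl) | exact rfl⟩
private theorem mOk1 : mOk m1 L1 = true := by ((try (rewrite [Cfsg.Agent.LsF.fd6400f_3.2])); decide +kernel)

private theorem mOk2 : mOk m2 L2 = true := by ((try (rewrite [Cfsg.Agent.LsF.fd6400f_3.2])); decide +kernel)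

private noncomputable def _root_.Cfsg.Agent.LsF.fd6400f_4 : {f // @Cfsg.Agent.MO.S.B7.bad = f} := ⟨_, by first | (delta Cfsg.Agent.MO.S.B7.bad; rewrite [Cfsg.Agent.LsF.nadd_pat, Cfsg.Agent.LsF.nmul_pat, Cfsg.Agent.LsF.nmod_pat, Cfsg.Agent.LsF.and_eq, Cfsg.Agent.LsF.or_eq, Cfsg.Agent.LsF.not_eq]; exact rfl) | exact rfl⟩
private noncomputable def _root_.Cfsg.Agent.LsF.fd6400f_5 : {f // @Cfsg.Agent.MO.S.B7.bq = f} := ⟨_, by first | (delta Cfsg.Agent.MO.S.B7.bq; rewrite [Cfsg.Agent.LsF.fd6400f_4.2]; exact rfl) | exact rfl⟩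
private noncomputable def _root_.Cfsg.Agent.LsF.fd6400f_6 : {f // @Cfsg.Agent.MO.S.B7.step = f} := ⟨_, by first | (delta Cfsg.Agent.MO.S.B7.step; rewrite [Cfsg.Agent.LsF.fd6400f_5.2]; exact rfl) | exact rfl⟩
private noncomputable def _root_.Cfsg.Agent.LsF.fd6400f_7 : {f // @Cfsg.Agent.MO.S.B7.build = f} := ⟨_, by first | (delta Cfsg.Agent.MO.S.B7.build; rewrite [Cfsg.Agent.LsF.fd6400f_6.2]; exact rfl) | exact rfl⟩
private noncomputable def _root_.Cfsg.Agent.LsF.fd6400f_8 : {f // @Cfsg.Agent.MO.S.M7.mul = f} := ⟨_, by first | (delta Cfsg.Agent.MO.S.M7.mul; rewrite [Cfsg.Agent.LsF.nadd_pat, Cfsg.Agent.LsF.nmul_pat, Cfsg.Agent.LsF.nmod_pat]; exact rfl) | exact rfl⟩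
private noncomputable def _root_.Cfsg.Agent.LsF.fd6400f_9 : {f // @Cfsg.Agent.MO.S.B7.ev = f} := ⟨_, by first | (delta Cfsg.Agent.MO.S.B7.ev; rewrite [Cfsg.Agent.LsF.fd6400f_8.2, Cfsg.Agent.LsF.cond_eq, Cfsg.Agent.LsF.foldl_eq]; exact rfl) | exact rfl⟩
private noncomputable def _root_.Cfsg.Agent.LsF.fd6400f_10 : {f // @Cfsg.Agent.MO.S.B7.stF = f} := ⟨_, by first | (delta Cfsg.Agent.MO.S.B7.stF; rewrite [Cfsg.Agent.LsF.fd6400f_7.2, Cfsg.Agent.LsF.fd6400f_9.2, Cfsg.Agent.LsF.fd6400f_1.2, Cfsg.Agent.LsF.fd6400f_5.2, Cfsg.Agent.LsF.map_eq]; exact rfl) | exact rfl⟩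
private theorem s13 : stF (1, 1, 1, 3) m2 = true := by ((try (rewrite [Cfsg.Agent.LsF.fd6400f_10.2])); decide +kernel)
private theorem s15 : stF (1, 1, 1, 5) m1 = true := by ((try (rewrite [Cfsg.Agent.LsF.fd6400f_10.2])); decide +kernel)
private theorem s23 : stF (1, 2, 1, 3) m1 = true := by ((try (rewrite [Cfsg.Agent.LsF.fd6400f_10.2])); decide +kernel)
private theorem s26 : stF (1, 2, 1, 6) m2 = true := by ((try (rewrite [Cfsg.Agent.LsF.fd6400f_10.2])); decide +kernel)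
private theorem s45 : stF (1, 4, 1, 5) m2 = true := by ((try (rewrite [Cfsg.Agent.LsF.fd6400f_10.2])); decide +kernel)
private theorem s46 : stF (1, 4, 1, 6) m1 = true := by ((try (rewrite [Cfsg.Agent.LsF.fd6400f_10.2])); decide +kernel)

private theorem chk_w : ∀ b < 7, ∀ d < 7, (W1.any fun w => bad (ev (1, b, 1, d) w)) = true ∨
    (b = 1 ∧ d = 3) ∨ (b = 1 ∧ d = 5) ∨ (b = 2 ∧ d = 3) ∨ (b = 2 ∧ d = 6) ∨ (b = 4 ∧ d = 5) ∨ (b = 4 ∧ d = 6) := by
  decide +kernel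

private noncomputable def _root_.Cfsg.Agent.LsF.fd6400f_11 : {f // @Cfsg.Agent.MO.S.B7.cmF = f} := ⟨_, by first | (delta Cfsg.Agent.MO.S.B7.cmF; rewrite [Cfsg.Agent.LsF.and_eq]; exact rfl) | exact rfl⟩
private noncomputable def _root_.Cfsg.Agent.LsF.fd6400f_12 : {f // @Cfsg.Agent.MO.S.B7.rowK = f} := ⟨_, by first | (delta Cfsg.Agent.MO.S.B7.rowK; rewrite [Cfsg.Agent.LsF.fd6400f_11.2]; exact rfl) | exact rfl⟩
private noncomputable def _root_.Cfsg.Agent.LsF.fd6400f_13 : {f // @Cfsg.Agent.MO.S.B7.cpF = f} := ⟨_, by first | (delta Cfsg.Agent.MO.S.B7.cpF; rewrite [Cfsg.Agent.LsF.fd6400f_12.2, Cfsg.Agent.LsF.map_eq, Cfsg.Agent.LsF.sum_eq]; exact rfl) | exact rfl⟩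
private noncomputable def _root_.Cfsg.Agent.LsF.fd6400f_14 : {f // @Cfsg.Agent.MO.S.M7.fix = f} := ⟨_, by first | (delta Cfsg.Agent.MO.S.M7.fix; rewrite [Cfsg.Agent.LsF.nadd_pat, Cfsg.Agent.LsF.nmul_pat, Cfsg.Agent.LsF.nmod_pat, Cfsg.Agent.LsF.and_eq]; exact rfl) | exact rfl⟩
private noncomputable def _root_.Cfsg.Agent.LsF.fd6400f_15 : {f // @Cfsg.Agent.MO.S.B7.cntF = f} := ⟨_, by first | (delta Cfsg.Agent.MO.S.B7.cntF; rewrite [Cfsg.Agent.LsF.fd6400f_13.2, Cfsg.Agent.LsF.fd6400f_14.2, Cfsg.Agent.LsF.map_eq, Cfsg.Agent.LsF.filter_eq, Cfsg.Agent.LsF.range_eq, Cfsg.Agent.LsF.sum_eq]; exact rfl) | exact rfl⟩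
private noncomputable def _root_.Cfsg.Agent.LsF.fd6400f_16 : {f // @Cfsg.Agent.MO.S.B7.pw = f} := ⟨_, by first | (delta Cfsg.Agent.MO.S.B7.pw Cfsg.Agent.MO.S.B7.pw._f Nat.brecOn.go Nat.brecOn; rewrite [Cfsg.Agent.LsF.fd6400f_8.2]; (try delta Cfsg.Agent.MO.S.B7.pw.match_1); (try delta Nat.casesOn); first | dsimp -zeta only | exact rfl) | exact rfl⟩
private noncomputable def _root_.Cfsg.Agent.LsF.fd6400f_17 : {f // @Cfsg.Agent.MO.S.B7.chn = f} := ⟨_, by first | (delta Cfsg.Agent.MO.S.B7.chn List.brecOn List.brecOn.go Cfsg.Agent.MO.S.B7.chn._f; rewrite [Cfsg.Agent.LsF.fd6400f_2.2, Cfsg.Agent.LsF.fd6400f_8.2, Cfsg.Agent.LsF.and_eq, Cfsg.Agent.LsF.or_eq, Cfsg.Agent.LsF.any_eq]; (try delta Cfsg.Agent.MO.S.B7.chn.match_1); (try delta List.casesOn); first | dsimp -zeta only | exact rfl) | exact rfl⟩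
theorem ok1 : okL L1 E1 T1 (1, 3, 6, 5) := by
  unfold okL
  rw [cnt_eq]
  (refine of_decide_eq_true ?_; (try (delta List.head?; rewrite [Cfsg.Agent.LsF.fd6400f_15.2, Cfsg.Agent.LsF.fd6400f_16.2, Cfsg.Agent.LsF.fd6400f_17.2, Cfsg.Agent.LsF.fd6400f_8.2, Cfsg.Agent.LsF.nmul_pat, Cfsg.Agent.LsF.dProdEq_eq, Cfsg.Agent.LsF.tail_eq, Cfsg.Agent.LsF.dAnd_eq, Cfsg.Agent.LsF.dOr_eq, Cfsg.Agent.LsF.dBoolEq_eq, Cfsg.Agent.LsF.dBAll_eq, Cfsg.Agent.LsF.dNodup_eq, Cfsg.Agent.LsF.dMem_eq, Cfsg.Agent.LsF.dExistsLT_eq, Cfsg.Agent.LsF.dAllP_eq, Cfsg.Agent.LsF.dOptEq_eq, Cfsg.Agent.LsF.length_eq, Cfsg.Agent.LsF.decide_eq])); decide +kernel)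

theorem ok2 : okL L2 E2 T2 (1, 1, 4, 5) := by
  unfold okL
  rw [cnt_eq]
  (refine of_decide_eq_true ?_; (try (delta List.head?; rewrite [Cfsg.Agent.LsF.fd6400f_15.2, Cfsg.Agent.LsF.fd6400f_16.2, Cfsg.Agent.LsF.fd6400f_17.2, Cfsg.Agent.LsF.fd6400f_8.2, Cfsg.Agent.LsF.nmul_pat, Cfsg.Agent.LsF.dProdEq_eq, Cfsg.Agent.LsF.tail_eq, Cfsg.Agent.LsF.dAnd_eq, Cfsg.Agent.LsF.dOr_eq, Cfsg.Agent.LsF.dBoolEq_eq, Cfsg.Agent.LsF.dBAll_eq, Cfsg.Agent.LsF.dNodup_eq, Cfsg.Agent.LsF.dMem_eq, Cfsg.Agent.LsF.dExistsLT_eq, Cfsg.Agent.LsF.dAllP_eq, Cfsg.Agent.LsF.dOptEq_eq, Cfsg.Agent.LsF.length_eq, Cfsg.Agent.LsF.decide_eq])); decide +kernel)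

private noncomputable def _root_.Cfsg.Agent.LsF.fd6400f_18 : {f // @Cfsg.Agent.MO.S.M7.allQ = f} := ⟨_, by first | (delta Cfsg.Agent.MO.S.M7.allQ; rewrite [Cfsg.Agent.LsF.map_eq, Cfsg.Agent.LsF.flatMap_eq, Cfsg.Agent.LsF.range_eq]; exact rfl) | exact rfl⟩
theorem chk_bad : ∀ A ∈ allQ 7, bad A = true → pw (pw (pw A 9) 4) 4 ≠ one4 := by (refine of_decide_eq_true ?_; (try (rewrite [Cfsg.Agent.LsF.fd6400f_18.2, Cfsg.Agent.LsF.fd6400f_4.2, Cfsg.Agent.LsF.fd6400f_16.2, Cfsg.Agent.LsF.dProdEq_eq, Cfsg.Agent.LsF.instDecEq_eq, Cfsg.Agent.LsF.dNot_eq, Cfsg.Agent.LsF.dBoolEq_eq, Cfsg.Agent.LsF.dBAll_eq, Cfsg.Agent.LsF.dAllP_eq, Cfsg.Agent.LsF.decide_eq])); decide +kernel)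

theorem chk_st : ∀ b < 7, ∀ d < 7, (W1.any fun w => bad (ev (1, b, 1, d) w)) = true ∨
    st2 (1, b, 1, d) L1 = true ∨ st2 (1, b, 1, d) L2 = true := by
  intro b hb d hd
  rcases chk_w b hb d hd with h | ⟨rfl, rfl⟩ | ⟨rfl, rfl⟩ | ⟨rfl, rfl⟩ | ⟨rfl, rfl⟩ | ⟨rfl, rfl⟩ | ⟨rfl, rfl⟩
  · exact Or.inl h
  · exact Or.inr (Or.inr (st2_of mOk2 s13))
  · exact Or.inr (Or.inl (st2_of mOk1 s15))
  · exact Or.inr (Or.inl (st2_of mOk1 s23))
  · exact Or.inr (Or.inr (st2_of mOk2 s26))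
  · exact Or.inr (Or.inr (st2_of mOk2 s45))
  · exact Or.inr (Or.inl (st2_of mOk1 s46))

theorem chk_three : ∀ b < 7, ∀ d < 7, pw (1, b, 0, d) 3 = one4 → d = 1 ∨ d = 2 ∨ (d * d) % 7 = 2 := by decide +kernel

end Cfsg.Agent.MO.S.B7
end

-- part: MO/S/B7/Mat
section
/-!
# MO, the Baby Monster, `p = 7` : the group `7^2 : (3 × 2S4)` (helper63)

`main` : a group with a normal self-centralising Sylow subgroup `7^2` and a transitive action.
-/

set_option autoImplicit false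
set_option maxRecDepth 100000

namespace Cfsg.Agent.MO.S.B7

open Cfsg Subgroup Cfsg.Agent.MO.T Cfsg.Agent.MO.S.M7 Cfsg.Agent.TAB.Eng Matrix
open scoped commutatorElement

instance f7 : Fact (Nat.Prime 7) := ⟨by norm_num⟩

theorem toQ_one : toQ (1 : M2 7) = one4 := by decide

theorem toQ_pow (A : M2 7) (k : ℕ) : toQ (A ^ k) = pw (toQ A) k := by
  induction k with
  | zero => exact toQ_one
  | succ k ih => rw [pow_succ, toQ_mul, ih, pw]

section cl

variable {I : Q4 → Prop} (h1 : I one4) (h2 : ∀ a b, I a → I b → I (mul 7 a b)) (hg : I g4)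
include h1 h2 hg

theorem ev_mem {h : Q4} (hh : I h) (w : List ℕ) : I (ev h w) := by
  unfold ev
  generalize one4 = r at h1
  induction w generalizing r with
  | nil => exact h1
  | cons b w ih => exact ih _ (h2 _ _ h1 (by cases b.beq 0; exacts [hh, hg]))

omit h1 in
theorem chn_mem {u : Q4} (hu : I u) {l acc : List Q4} (ha : ∀ x ∈ acc, I x) (h : chn u acc l = true) : ∀ q ∈ l, I q := by
  induction l generalizing acc with
  | nil => exact List.forall_mem_nil _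
  | cons q r ih =>
    rw [chn, Bool.and_eq_true, List.any_eq_true] at h
    obtain ⟨⟨x, hx, h3⟩, h4⟩ := h
    rw [Bool.or_eq_true, eqQ_iff, eqQ_iff] at h3
    have h5 : I q := h3.elim (fun e => e ▸ h2 _ _ (ha x hx) hg) fun e => e ▸ h2 _ _ (ha x hx) hu
    exact List.forall_mem_cons.2 ⟨h5, ih (List.forall_mem_cons.2 ⟨h5, ha⟩) h4⟩

theorem st2_mem (hb : ∀ a, I a → bad a = false) (ha : ∀ a, I a → a ∈ allQ 7) {h : Q4} (hh : I h) {L : List Q4}
    (hs : st2 h L = true) (A : Q4) (hA : I A) : A ∈ L := by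
  simp only [st2, frp_eq, frq_eq] at hs
  have h3 := List.all_eq_true.1 hs A (ha A hA)
  rw [hb A hA, Bool.false_or, Bool.or_eq_true, List.any_eq_true, List.any_eq_true] at h3
  rcases h3 with ⟨_, h4, h5⟩ | ⟨x, h4, h5⟩
  · obtain ⟨w, -, rfl⟩ := List.mem_map.1 h4
    rw [hb _ (h2 _ _ (h2 _ _ (h2 _ _ hA (ev_mem h1 h2 hg hh _)) hA) (ev_mem h1 h2 hg hh _))] at h5
    exact absurd h5 (by decide)
  · exact eqQ_iff.1 h5 ▸ h4

end cl

variable {E : Type} [Group E] [Finite E]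

theorem cls_of {S : Sylow 7 E} [hn : (S : Subgroup E).Normal] (hab : ∀ a ∈ (S : Subgroup E), ∀ b ∈ (S : Subgroup E), a * b = b * a)
    {L : List Q4} {c : ℕ} (h : k0 7 (NN (S : Subgroup E)) * (S : Subgroup E).relIndex (NN (S : Subgroup E)) = cnt 7 L)
    (h1 : cnt 7 L = c * (S : Subgroup E).index) : Nat.card (ConjClasses E) = c := by
  have h2 : NN (S : Subgroup E) = ⊤ := normalizer_eq_top _
  rw [h2, relIndex_top_right, k0_congr topEquiv, k0_abelian _ hab S.not_dvd_index, h1] at h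
  exact Nat.eq_of_mul_eq_mul_right (Nat.pos_of_ne_zero index_ne_zero_of_finite) h

omit [Finite E] in
theorem exists_res {S : Sylow 7 E} (C : Ch 7 (S : Subgroup E)) (hb : ⁅(S : Subgroup E), (S : Subgroup E)⁆ = ⊥) {U : Subgroup E}
    (hU : (S : Subgroup E) ≤ U) : ∃ D : Ch 7 (S.subtype hU : Subgroup U),
      ∀ (g : NN (S.subtype hU : Subgroup U)) (g' : NN (S : Subgroup E)), ((g : U) : E) = g' → D.ρ g = C.ρ g' := by
  obtain ⟨D, hD⟩ := (⟨fun u hu v hv => C.pre.add u hu v hv, fun v => by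
    obtain ⟨u, hu, h⟩ := C.pre.surj v
    exact ⟨⟨u, hU hu⟩, hu, h⟩, fun u hu h => by
    have h1 := C.pre.ker u hu h
    rw [hb, mem_bot] at h1
    rw [show u = 1 from Subtype.ext h1]
    exact one_mem _⟩ : Pre 7 (S.subtype hU : Subgroup U) fun u => C.c u).exists_ch
  refine ⟨D, fun g g' e => D.pre.mat_ext fun u hu => ?_⟩
  rw [← D.conj g u hu, hD]
  beta_reduce
  rw [← C.conj g' u hu, ← e]
  rfl

variable {S : Sylow 7 E} [hn : (S : Subgroup E).Normal] (h49 : Nat.card (S : Subgroup E) = 49)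
  (hc : centralizer ((S : Subgroup E) : Set E) ≤ S)

omit [Finite E] hn in
include h49 in
theorem ab : ∀ a ∈ (S : Subgroup E), ∀ b ∈ (S : Subgroup E), a * b = b * a := fun a ha b hb =>
  congrArg Subtype.val ((IsPGroup.isMulCommutative_of_card_eq_prime_sq (p := 7) h49).is_comm.comm
    (⟨a, ha⟩ : (S : Subgroup E)) ⟨b, hb⟩)

omit [Finite E] hn in
include h49 in
theorem cb : ⁅(S : Subgroup E), (S : Subgroup E)⁆ = ⊥ :=
  commutator_eq_bot_iff_le_centralizer.2 fun a ha => mem_centralizer_iff.2 fun b hb => ab h49 b hb a ha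

omit [Finite E] hn in
include h49 hc in
theorem fa (C : Ch 7 (S : Subgroup E)) : C.Fa := fun g hg => hc (mem_centralizer_iff.2 fun u hu => by
  have h1 := C.conj g u hu
  rw [hg, one_mulVec, C.pre.eq_iff (conj_mem g hu) hu, cb h49, mem_bot, inv_mul_eq_one, mul_inv_eq_iff_eq_mul] at h1
  exact h1.symm)

omit [Finite E] in
theorem mN (g : E) : g ∈ NN (S : Subgroup E) := by
  rw [show NN (S : Subgroup E) = ⊤ from normalizer_eq_top _]
  trivial

variable (h7 : ∀ u ∈ (S : Subgroup E), u ^ 7 = 1)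
  (ht : ∀ u ∈ (S : Subgroup E), ∀ v ∈ (S : Subgroup E), u ≠ 1 → v ≠ 1 → IsConj u v)
  (hi : (S : Subgroup E).index % 7 = 4)
include h49 hc h7 ht hi

theorem idx : (S : Subgroup E).index = 144 ∧ ∃ a ∈ (S : Subgroup E), a ≠ 1 ∧ ∃ y : E, orderOf y = 3 ∧ y * a = a * y := by
  have : Nontrivial (S : Subgroup E) := Finite.one_lt_card_iff_nontrivial.1 (by rw [h49]; decide)
  obtain ⟨⟨a, ha⟩, h1⟩ := exists_ne (1 : (S : Subgroup E))
  have h2 : a ≠ 1 := fun e => h1 (Subtype.ext e)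
  have h3 : Nat.card {g : E // IsConj a g} = 48 := by
    have h4 : Nat.card {g : E // IsConj a g} = Nat.card {u : (S : Subgroup E) // u ≠ 1} :=
      Nat.card_congr ⟨fun g => ⟨⟨g.1, by
        obtain ⟨c, h⟩ := isConj_iff.1 g.2
        exact h ▸ hn.conj_mem a ha c⟩, fun e => h2 (isConj_one_left.1 ((show g.1 = 1 from congrArg Subtype.val e) ▸ g.2))⟩,
        fun u => ⟨u.1, ht a ha _ u.1.2 h2 fun e => u.2 (Subtype.ext e)⟩, fun _ => rfl, fun _ => rfl⟩
    have := Fintype.ofFinite (S : Subgroup E)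
    classical
    rw [h4, Nat.card_eq_fintype_card, Fintype.card_subtype_compl, ← Nat.card_eq_fintype_card, h49,
      Fintype.card_subtype_eq]
  have h4 := card_class a
  obtain ⟨m, hm⟩ := card_dvd_of_le (show (S : Subgroup E) ≤ centralizer {a} from fun u hu =>
    mem_centralizer_singleton_iff.2 (ab h49 u hu a ha))
  have h5 := Up.relIndex_dvd_GL S (S.isPGroup'.to_le hc) (d := 2) (by
    rw [_root_.commutator_def, commutator_eq_bot_iff_le_centralizer.2 fun x _ => mem_centralizer_iff.2 fun y _ =>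
      Subtype.ext (ab h49 y y.2 x x.2), index_bot, h49]; rfl) fun q hq => by rw [h7 q hq]; exact one_mem _
  rw [normalizer_eq_top, relIndex_top_right, show ∏ i : Fin 2, (7 ^ 2 - 7 ^ (i : ℕ)) = 48 * 42 by decide] at h5
  rw [h3, hm, ← (S : Subgroup E).card_mul_index, h49] at h4
  have h6 : (S : Subgroup E).index = 48 * m := by omega
  rw [h6] at hi h5
  have h8 := Nat.dvd_of_mul_dvd_mul_left (by decide) h5
  have h9 := Nat.le_of_dvd (by decide) h8
  obtain rfl : m = 3 := by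
    interval_cases m <;> first | rfl | exact absurd hi (by decide) | exact absurd h8 (by decide)
  obtain ⟨y, hy⟩ := exists_prime_orderOf_dvd_card' (G := centralizer ({a} : Set E)) 3 (hp := ⟨Nat.prime_three⟩)
    ⟨_, hm.trans (mul_comm _ _)⟩
  exact ⟨h6, a, ha, h2, y, (orderOf_coe y).trans hy, mem_centralizer_singleton_iff.1 y.2⟩

theorem chart : ∃ C : Ch 7 (S : Subgroup E), ∃ g, toQ (C.ρ g) = g4 := by
  obtain ⟨-, a, ha, h1, y, h2, h3⟩ := idx h49 hc h7 ht hi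
  obtain ⟨C⟩ := exists_ch (p := 7) (P := (S : Subgroup E)) (by rw [cb h49, relIndex_bot_left, h49]; rfl) h7
  obtain ⟨C, h4⟩ := C.exists_first ha (by rwa [cb h49, mem_bot])
  have h5 : ∀ g : NN (S : Subgroup E), g * a = a * g → C.ρ g 0 0 = 1 ∧ C.ρ g 1 0 = 0 := fun g e => by
    have h6 := C.conj g a ha
    rw [e, mul_inv_cancel_right, h4] at h6
    exact ⟨by simpa using (congrFun h6 0).symm, by simpa using (congrFun h6 1).symm⟩
  have h6 : ∀ g : NN (S : Subgroup E), g * a = a * g → C.ρ g 1 1 = 2 → ∃ C : Ch 7 (S : Subgroup E), ∃ g, toQ (C.ρ g) = g4 :=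
    fun g e h => by
    obtain ⟨D, -, hD⟩ := C.rebase (m := !![1, C.ρ g 0 1; 0, 1]) (by simp)
    refine ⟨D, g, ?_⟩
    rw [hD g !![1, 0; 0, 2] (by
      conv_rhs => rw [eta_fin_two (C.ρ g), (h5 g e).1, (h5 g e).2, h]
      simp [mul_two])]
    decide
  let g : NN (S : Subgroup E) := ⟨y, mN y⟩
  have h8 : g ^ 3 = 1 := Subtype.ext (h2 ▸ pow_orderOf_eq_one y)
  have h9 := toQ_pow (C.ρ g) 3
  rw [← map_pow, h8, map_one, toQ_one, toQ, (h5 g h3).1, (h5 g h3).2] at h9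
  rcases chk_three _ (ZMod.val_lt _) _ (ZMod.val_lt _) h9.symm with h | h | h
  · have h10 := h7 y ((fa h49 hc C).unip (g := g) (h5 g h3).1 (h5 g h3).2 (ZMod.val_injective 7 h))
    rw [← orderOf_dvd_iff_pow_eq_one, h2] at h10
    exact absurd h10 (by decide)
  · exact h6 g h3 (ZMod.val_injective 7 h)
  · refine h6 (g * g) ((show Commute y a from h3).mul_left h3) (ZMod.val_injective 7 ?_)
    rw [map_mul, mul_apply, Fin.sum_univ_two, (h5 g h3).2, zero_mul, zero_add, ZMod.val_mul, h]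
    rfl

/-- **the group `7^2 : (3 × 2S4)`** -/
theorem main : Nat.card E = 7056 ∧ Nat.card (ConjClasses E) = 27 ∧
    (∀ U : Subgroup E, U.index = 2 → Nat.card (ConjClasses U) = 27) ∧
    ∀ a b : E, Commute a b → ∃ j, b ^ 441 = (a ^ 441) ^ j ∨ a ^ 441 = (b ^ 441) ^ j := by
  obtain ⟨C, g, hg⟩ := chart h49 hc h7 ht hi
  have h0 := (idx h49 hc h7 ht hi).1
  have hf := fa h49 hc C
  have hE : Nat.card E = 7056 := by rw [← (S : Subgroup E).card_mul_index, h49, h0]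
  have hr : (S : Subgroup E).relIndex (NN (S : Subgroup E)) = 144 := by
    rw [show NN (S : Subgroup E) = ⊤ from normalizer_eq_top _, relIndex_top_right, h0]
  have h144 : ∀ x, C.ρ x ^ 144 = 1 := fun x => by
    rw [← map_pow]
    exact C.rho_of_mem (h0 ▸ pow_index_mem (S : Subgroup E) x)
  let I : Q4 → Prop := fun q => ∃ x, toQ (C.ρ x) = q
  have i1 : I one4 := ⟨1, by rw [map_one, toQ_one]⟩
  have i2 : ∀ a b, I a → I b → I (mul 7 a b) := by
    rintro _ _ ⟨x, rfl⟩ ⟨y, rfl⟩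
    exact ⟨x * y, by rw [map_mul, toQ_mul]⟩
  have i3 : ∀ a, I a → a ∈ allQ 7 := by
    rintro _ ⟨x, rfl⟩
    exact mem_allQ _
  have i4 : ∀ a, I a → bad a = false := by
    rintro _ ⟨x, rfl⟩
    refine Bool.eq_false_iff.2 fun h => chk_bad _ (mem_allQ _) h ?_
    rw [← toQ_pow, ← toQ_pow, ← toQ_pow, ← pow_mul, ← pow_mul, h144, toQ_one]
  obtain ⟨L, M, T, u, hL, ok⟩ : ∃ L M T u, (∀ A, I A → A ∈ L) ∧ okL L M T u := by
    obtain ⟨u, hu, h1⟩ := C.pre.surj ![1, 0]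
    obtain ⟨v, hv, h2⟩ := C.pre.surj ![1, 1]
    obtain ⟨x, hx⟩ := isConj_iff.1 (ht u hu v hv (fun e => by rw [e, C.pre.one] at h1; exact absurd h1 (by decide))
      fun e => by rw [e, C.pre.one] at h2; exact absurd h2 (by decide))
    have h3 := C.conj ⟨x, mN x⟩ u hu
    rw [hx, h1, h2] at h3
    have h4 : I (1, (C.ρ ⟨x, mN x⟩ 0 1).val, 1, (C.ρ ⟨x, mN x⟩ 1 1).val) := ⟨⟨x, mN x⟩, by
      rw [toQ, show C.ρ ⟨x, mN x⟩ 0 0 = 1 by simpa using (congrFun h3 0).symm,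
        show C.ρ ⟨x, mN x⟩ 1 0 = 1 by simpa using (congrFun h3 1).symm]
      rfl⟩
    rcases chk_st _ (ZMod.val_lt (C.ρ ⟨x, mN x⟩ 0 1)) _ (ZMod.val_lt (C.ρ ⟨x, mN x⟩ 1 1)) with h | h | h
    · obtain ⟨w, -, h5⟩ := List.any_eq_true.1 h
      rw [i4 _ (ev_mem i1 i2 ⟨g, hg⟩ h4 w)] at h5
      exact absurd h5 (by decide)
    · exact ⟨_, _, _, _, st2_mem i1 i2 ⟨g, hg⟩ i4 i3 h4 h, ok1⟩
    · exact ⟨_, _, _, _, st2_mem i1 i2 ⟨g, hg⟩ i4 i3 h4 h, ok2⟩
  obtain ⟨k1, k2, k3, k4, k5, k6, k7, k8, k9, k10, k11⟩ := ok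
  refine ⟨hE, cls_of (ab h49) (hf.count_sub (fun x => hL _ ⟨x, rfl⟩) (by rw [hr, k1])) (by rw [k2, h0]),
    fun U hU => ?_, fun a b hab => ?_⟩
  · have h1 : (S : Subgroup E) ≤ U := fun s hs => by
      have h2 := pow_mem (U.sq_mem_of_index_two hU s) 4
      rwa [← pow_mul, pow_succ, h7 s hs, one_mul] at h2
    obtain ⟨D, hD⟩ := exists_res C (cb h49) h1
    have h2 : (S.subtype h1 : Subgroup U).Normal := hn.subgroupOf U
    have h3 : (S.subtype h1 : Subgroup U).index = 72 := by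
      have h4 := relIndex_mul_index h1
      rw [hU, h0] at h4
      change (S : Subgroup E).relIndex U = 72
      omega
    have h4 : Nat.card (S.subtype h1 : Subgroup U) = 49 := (Nat.card_congr (subgroupOfEquivOfLe h1).toEquiv).trans h49
    let J : Q4 → Prop := fun q => ∃ x, toQ (D.ρ x) = q
    have j1 : J one4 := ⟨1, by rw [map_one, toQ_one]⟩
    have j2 : ∀ a b, J a → J b → J (mul 7 a b) := by
      rintro _ _ ⟨x, rfl⟩ ⟨y, rfl⟩
      exact ⟨x * y, by rw [map_mul, toQ_mul]⟩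
    have j3 : ∀ a, I a → J (pw a 4) := by
      rintro _ ⟨x, rfl⟩
      have h5 := pow_mem (U.sq_mem_of_index_two hU x) 2
      rw [← pow_mul] at h5
      exact ⟨⟨⟨_, h5⟩, mN _⟩, by rw [hD _ (x ^ 4) rfl, map_pow, toQ_pow]⟩
    have h5 : I u := by
      have h6 := Set.eq_of_subset_of_ncard_le (s := Set.range fun x => toQ (C.ρ x)) (t := L.toFinset)
        (fun q hq => List.mem_toFinset.2 (hL q hq)) (by
          rw [hf.card_range, Set.ncard_coe_finset, hr, ← k1]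
          exact List.toFinset_card_le L)
      exact h6.ge (List.mem_toFinset.2 k6)
    have h6 : ∀ q ∈ M, J q := by
      obtain _ | ⟨q, M⟩ := M
      · exact List.forall_mem_nil _
      obtain rfl : q = one4 := Option.some.inj k8
      exact List.forall_mem_cons.2 ⟨j1, chn_mem j2 (j3 g4 ⟨g, hg⟩) (k7 ▸ j3 u h5) (List.forall_mem_singleton.2 j1) k9⟩
    refine cls_of (ab h4) (Ch.Fa.count_sup (C := D) (fun x hx => ?_) k3 h6 ?_) (by rw [k5, h3])
    · exact hf ⟨_, mN _⟩ ((hD x _ rfl).symm.trans hx)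
    · rw [show NN (S.subtype h1 : Subgroup U) = ⊤ from normalizer_eq_top _, relIndex_top_right, h3, k4]
  · have h1 : ∀ x : E, toQ (C.ρ ⟨x ^ 441, mN _⟩) ∈ T := fun x => by
      rw [show (⟨x ^ 441, mN _⟩ : NN (S : Subgroup E)) = ⟨x, mN x⟩ ^ (144 * 3 + 9) from rfl, map_pow, pow_add, pow_mul, h144,
        one_pow, one_mul, toQ_pow]
      exact k10 _ (hL _ ⟨_, rfl⟩)
    have h2 : ∀ x y : E, Commute x y → ∀ j, toQ (C.ρ ⟨y ^ 441, mN _⟩) = pw (toQ (C.ρ ⟨x ^ 441, mN _⟩)) j →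
        y ^ 441 = (x ^ 441) ^ j := fun x y hxy j e => by
      rw [← toQ_pow, ← map_pow] at e
      have h3 := hf (⟨y ^ 441, mN _⟩ * (⟨x ^ 441, mN _⟩ ^ j)⁻¹) (by
        rw [map_mul, toQ_inj e, ← map_mul, mul_inv_cancel, map_one])
      have h4 : (y ^ 441 * ((x ^ 441) ^ j)⁻¹) ^ 7 = 1 := h7 _ h3
      have h5 : (y ^ 441 * ((x ^ 441) ^ j)⁻¹) ^ 16 = 1 := by
        rw [((hxy.symm.pow_pow 441 441).pow_right j).inv_right.mul_pow, inv_pow, ← pow_mul, ← pow_mul, mul_comm j, pow_mul _ 16,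
          ← pow_mul x, show 441 * 16 = Nat.card E from hE.symm, pow_card_eq_one', pow_card_eq_one', one_pow, inv_one, mul_one]
      exact mul_inv_eq_one.1 ((pow_one _).symm.trans (pow_gcd_eq_one.2 ⟨h4, h5⟩))
    obtain ⟨j, -, h3⟩ := k11 _ (h1 a) _ (h1 b) (by
      rw [← toQ_mul, ← toQ_mul, ← map_mul, ← map_mul]
      exact congrArg (fun x => toQ (C.ρ x)) (Subtype.ext (hab.pow_pow 441 441).eq))
    exact ⟨j, h3.imp (h2 a b hab j) (h2 b a hab.symm j)⟩

end Cfsg.Agent.MO.S.B7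
end

private theorem dce_e4fbe189a262 : _root_.True := by
  try have : _root_.True := by simp only [_root_.Cfsg.Agent.MO.S.SuzL.eqY.eq_1]
  try have : _root_.True := by simp only [_root_.Cfsg.Agent.MO.S.B7.chn.eq_def]
  try have : _root_.True := by simp only [_root_.Cfsg.Agent.MO.S.B7.chn.eq_1]
  try have : _root_.True := by simp only [_root_.Cfsg.Agent.MO.S.SuzL.g0.eq_1]
  try have : _root_.True := by simp only [_root_.Cfsg.Agent.MO.S.B7.frq.eq_1]
  try have : _root_.True := by simp only [_root_.Cfsg.Agent.MO.S.B7.pw.eq_2]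
  try have : _root_.True := by simp only [_root_.Cfsg.Agent.MO.S.SuzL.wd.eq_1]
  try have : _root_.True := by simp only [_root_.Cfsg.Agent.MO.S.B7.st2.eq_1]
  try have : _root_.True := by simp only [_root_.Cfsg.Agent.MO.S.B7.chn.eq_2]
  try have : _root_.True := by simp only [_root_.Cfsg.Agent.MO.S.SuzL.lt.eq_1]
  try have : _root_.True := by simp only [_root_.Cfsg.Agent.MO.S.B7.pw.eq_1]
  try have : _root_.True := by simp only [_root_.Cfsg.Agent.MO.S.B7.pw.eq_def]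
  exact _root_.True.intro
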